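import Cfsg.Agent.Characters.GL23.Group
import Cfsg.Agent.MElevenUnique.Tools
import Cfsg.Agent.Small.Dihedral
import Cfsg.Agent.Small.OrderTools

/-!
# A simple group of order 5616 with an involution centralizer `GL(2, 3)`: first facts
-/

set_option autoImplicit false
set_option linter.style.haveILetI false

namespace CfsgLib.GLTwoThreeRecog

open CfsgLib.Characters.GL23 Matrix
open CfsgLib.MElevenUnique (Cg Ng mem_Cg mem_Cg_comm card_Cg_of_isConj mem_Cg_conj)

theorem conj_three : ∀ v ∈ elts.filter (fun v => pow3 v 3 = one3 ∧ v ≠ one3),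
    ∀ w ∈ elts.filter (fun v => pow3 v 3 = one3 ∧ v ≠ one3),
      ∃ g ∈ elts, mul3 g v = mul3 w g := by decide +kernel

theorem card_commutant_three : ∀ v ∈ elts.filter (fun v => pow3 v 3 = one3 ∧ v ≠ one3),
    (elts.filter fun w => mul3 v w = mul3 w v).card = 6 := by decide +kernel

theorem exists_inverter3 : ∀ v ∈ elts.filter (fun v => pow3 v 3 = one3 ∧ v ≠ one3),
    ∃ r ∈ elts.filter (fun r => IsInv3 r ∧ r ≠ m1), mul3 (mul3 r v) r = mul3 v v := by decide +kernel

universe u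

variable {G : Type u} [Group G]

/-- A group of order 5616 with a chosen involution with centralizer `GL(2, 3)`. -/
structure Ctx (G : Type u) [Group G] where
  t : G
  e : Subgroup.centralizer ({t} : Set G) ≃* GeneralLinearGroup (Fin 2) (ZMod 3)
  ht : orderOf t = 2
  hcard : Nat.card G = 5616

/-- An element of order three centralised by an involution. -/
def IsA (x : G) : Prop := orderOf x = 3 ∧ ∃ u : G, orderOf u = 2 ∧ u * x = x * u

theorem mem_Ng_of_forall [Finite G] {H : Subgroup G} {n : G} (h : ∀ x ∈ H, n * x * n⁻¹ ∈ H) :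
    n ∈ Ng H := by
  let f : H → H := fun x => ⟨n * x * n⁻¹, h _ x.2⟩
  have hf : Function.Bijective f := Finite.injective_iff_bijective.1 fun a b hab =>
    Subtype.ext (mul_left_cancel (mul_right_cancel (congrArg Subtype.val hab)))
  refine Subgroup.mem_normalizer_iff.2 fun x => ⟨h x, fun hx => ?_⟩
  obtain ⟨y, hy⟩ := hf.2 ⟨_, hx⟩
  have : n * y * n⁻¹ = n * x * n⁻¹ := congrArg Subtype.val hy
  exact mul_left_cancel (mul_right_cancel this) ▸ y.2

theorem pow_mod_three {a : G} (ha : orderOf a = 3) (n : ℕ) : a ^ n = a ^ (n % 3) :=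
  pow_eq_pow_mod n (ha ▸ pow_orderOf_eq_one a)

theorem mem_zpowers_three {a x : G} (ha : orderOf a = 3) (hx : x ∈ Subgroup.zpowers a) :
    x = 1 ∨ x = a ∨ x = a⁻¹ := by
  obtain ⟨k, rfl⟩ := (IsOfFinOrder.mem_powers_iff_mem_zpowers
    (orderOf_pos_iff.1 (by omega : 0 < orderOf a))).2 hx
  show a ^ k = 1 ∨ a ^ k = a ∨ a ^ k = a⁻¹
  have h3 : a ^ 3 = 1 := ha ▸ pow_orderOf_eq_one a
  rw [pow_mod_three ha k]
  rcases (show k % 3 = 0 ∨ k % 3 = 1 ∨ k % 3 = 2 by omega) with h | h | h <;> rw [h]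
  · exact Or.inl (pow_zero a)
  · exact Or.inr (Or.inl (pow_one a))
  · exact Or.inr (Or.inr (eq_inv_of_mul_eq_one_left (by rw [← pow_succ]; exact h3)))

theorem zpowers_eq_of_mem {a x : G} (ha : orderOf a = 3) (hx : x ∈ Subgroup.zpowers a) (hx1 : x ≠ 1) :
    Subgroup.zpowers x = Subgroup.zpowers a := by
  rcases mem_zpowers_three ha hx with rfl | rfl | rfl
  · exact absurd rfl hx1
  · rfl
  · exact Subgroup.zpowers_inv

/-- Elements of a group of order nine through two independent elements of order three. -/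
theorem decomp_nine [Finite G] {H : Subgroup G} (hH : Nat.card H = 9) {a b : G}
    (ha : a ∈ H) (hb : b ∈ H) (hao : orderOf a = 3) (hbo : orderOf b = 3)
    (hne : b ∉ Subgroup.zpowers a) {x : G} (hx : x ∈ H) :
    ∃ i j : ℕ, i < 3 ∧ j < 3 ∧ x = a ^ i * b ^ j := by
  let f : Fin 3 × Fin 3 → H := fun p =>
    ⟨a ^ (p.1 : ℕ) * b ^ (p.2 : ℕ), H.mul_mem (H.pow_mem ha _) (H.pow_mem hb _)⟩
  have hf : Function.Injective f := by
    rintro ⟨i, j⟩ ⟨i', j'⟩ h
    have h' : a ^ (i : ℕ) * b ^ (j : ℕ) = a ^ (i' : ℕ) * b ^ (j' : ℕ) := congrArg Subtype.val h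
    have hmem : b ^ (j : ℕ) * (b ^ (j' : ℕ))⁻¹ ∈ Subgroup.zpowers a := by
      have : b ^ (j : ℕ) * (b ^ (j' : ℕ))⁻¹ = (a ^ (i : ℕ))⁻¹ * a ^ (i' : ℕ) := by
        calc b ^ (j : ℕ) * (b ^ (j' : ℕ))⁻¹
            = (a ^ (i : ℕ))⁻¹ * (a ^ (i : ℕ) * b ^ (j : ℕ)) * (b ^ (j' : ℕ))⁻¹ := by group
          _ = (a ^ (i : ℕ))⁻¹ * a ^ (i' : ℕ) := by rw [h']; group
      rw [this]
      exact mul_mem (inv_mem (Subgroup.pow_mem _ (Subgroup.mem_zpowers a) _))
        (Subgroup.pow_mem _ (Subgroup.mem_zpowers a) _)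
    have hj : b ^ (j : ℕ) * (b ^ (j' : ℕ))⁻¹ = 1 := by
      by_contra h1
      refine hne ?_
      have hb' : b ^ (j : ℕ) * (b ^ (j' : ℕ))⁻¹ ∈ Subgroup.zpowers b :=
        mul_mem (Subgroup.pow_mem _ (Subgroup.mem_zpowers b) _)
          (inv_mem (Subgroup.pow_mem _ (Subgroup.mem_zpowers b) _))
      rw [← zpowers_eq_of_mem hao hmem h1, zpowers_eq_of_mem hbo hb' h1]
      exact Subgroup.mem_zpowers b
    rw [mul_inv_eq_one] at hj
    have hjj : j = j' := Fin.ext (pow_injOn_Iio_orderOf (by simp [hbo]) (by simp [hbo]) hj)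
    subst hjj
    exact Prod.ext (Fin.ext (pow_injOn_Iio_orderOf (by simp [hao]) (by simp [hao])
      (mul_right_cancel h'))) rfl
  obtain ⟨⟨i, j⟩, hij⟩ :=
    (hf.bijective_of_nat_card_le (by rw [hH]; simp)).2 ⟨x, hx⟩
  exact ⟨i, j, i.2, j.2, (congrArg Subtype.val hij).symm⟩

/-- The number of conjugates of `x` under a subgroup containing its centraliser. -/
theorem card_orbit_mul [Finite G] {N : Subgroup G} {x : G} (hle : Cg x ≤ N) :
    {w : G | ∃ n ∈ N, n * x * n⁻¹ = w}.ncard * Nat.card (Cg x) = Nat.card N := by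
  let K := (Cg x).subgroupOf N
  let f : N ⧸ K → G := Quotient.lift (fun n : N => (n : G) * x * (n : G)⁻¹) (fun a b hab => by
    have h : a⁻¹ * b ∈ K := QuotientGroup.leftRel_apply.1 hab
    have h' : ((a : G)⁻¹ * b) * x = x * ((a : G)⁻¹ * b) := mem_Cg.1 h
    calc (a : G) * x * (a : G)⁻¹ = (a : G) * (x * ((a : G)⁻¹ * b)) * (b : G)⁻¹ := by group
      _ = (a : G) * (((a : G)⁻¹ * b) * x) * (b : G)⁻¹ := by rw [h']
      _ = (b : G) * x * (b : G)⁻¹ := by group)
  have hf : Function.Injective f := by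
    intro p q
    induction p using QuotientGroup.induction_on with
    | _ a =>
      induction q using QuotientGroup.induction_on with
      | _ b =>
        intro hab
        refine QuotientGroup.eq.2 (mem_Cg.2 ?_)
        have h : (a : G) * x * (a : G)⁻¹ = (b : G) * x * (b : G)⁻¹ := hab
        show (a : G)⁻¹ * b * x = x * ((a : G)⁻¹ * b)
        calc (a : G)⁻¹ * b * x = (a : G)⁻¹ * ((b : G) * x * (b : G)⁻¹) * b := by group
          _ = x * ((a : G)⁻¹ * b) := by rw [← h]; group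
  have hr : Set.range f = {w : G | ∃ n ∈ N, n * x * n⁻¹ = w} := by
    ext w
    constructor
    · rintro ⟨p, rfl⟩
      induction p using QuotientGroup.induction_on with
      | _ a => exact ⟨a, a.2, rfl⟩
    · rintro ⟨n, hn, rfl⟩
      exact ⟨((⟨n, hn⟩ : N) : N ⧸ K), rfl⟩
  rw [← hr, ← Nat.card_coe_set_eq, Nat.card_range_of_injective hf, ← Subgroup.index_eq_card,
    ← Nat.card_congr (Subgroup.subgroupOfEquivOfLe hle).toEquiv, mul_comm]
  exact Subgroup.card_mul_index K

namespace Ctx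

variable [Finite G] (c : Ctx G)
include c

theorem exists_three : ∃ g : G, g ∈ Cg c.t ∧ orderOf g = 3 := by
  haveI : Fact (Nat.Prime 3) := ⟨Nat.prime_three⟩
  obtain ⟨x, hx⟩ := exists_prime_orderOf_dvd_card' (G := Cg c.t) 3
    (by rw [card_centralizer c.e]; norm_num)
  exact ⟨x, x.2, (Subgroup.orderOf_coe x).trans hx⟩

theorem three_coord {g : G} (hg : g ∈ Cg c.t) (hg3 : orderOf g = 3) :
    coord c.e ⟨g, hg⟩ ∈ elts.filter (fun v => pow3 v 3 = one3 ∧ v ≠ one3) := by
  refine Finset.mem_filter.2 ⟨coord_mem c.e _, ?_, ?_⟩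
  · rw [← coord_pow, ← coord_one c.e, (coord_injective c.e).eq_iff]
    exact Subtype.ext (hg3 ▸ pow_orderOf_eq_one g)
  · rw [← coord_one c.e, (coord_injective c.e).ne_iff]
    intro h
    have : g = 1 := congrArg Subtype.val h
    rw [this, orderOf_one] at hg3
    omega

theorem isConj_three {g g' : G} (hg : g ∈ Cg c.t) (hg3 : orderOf g = 3) (hg' : g' ∈ Cg c.t)
    (hg3' : orderOf g' = 3) : IsConj g g' := by
  obtain ⟨v, hv, h⟩ := conj_three _ (c.three_coord hg hg3) _ (c.three_coord hg' hg3')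
  exact conj_of_coord c.e hv h

theorem card_inter {g : G} (hg : g ∈ Cg c.t) (hg3 : orderOf g = 3) :
    Nat.card ↥(Cg g ⊓ Cg c.t : Subgroup G) = 6 := by
  rw [← card_commutant_three _ (c.three_coord hg hg3), ← Nat.card_eq_finsetCard]
  refine Nat.card_congr (Equiv.ofBijective
    (fun x : (Cg g ⊓ Cg c.t : Subgroup G) => ⟨coord c.e ⟨x.1, x.2.2⟩,
      Finset.mem_filter.2 ⟨coord_mem c.e _, ?_⟩⟩) ⟨fun a b hab => ?_, fun w => ?_⟩)
  · rw [← coord_mul, ← coord_mul]
    exact congrArg _ (Subtype.ext (mem_Cg.1 x.2.1).symm)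
  · exact Subtype.ext (congrArg (fun y : Cg c.t => (y : G))
      (coord_injective c.e (congrArg Subtype.val hab)))
  · obtain ⟨hw, hwc⟩ := Finset.mem_filter.1 w.2
    obtain ⟨x, hx⟩ := coord_surj c.e hw
    rw [← hx, ← coord_mul, ← coord_mul, (coord_injective c.e).eq_iff] at hwc
    exact ⟨⟨x, mem_Cg.2 (congrArg Subtype.val hwc).symm, x.2⟩, Subtype.ext hx⟩

theorem exists_inverter {g : G} (hg : g ∈ Cg c.t) (hg3 : orderOf g = 3) :
    ∃ r : G, orderOf r = 2 ∧ orderOf (r * c.t) = 2 ∧ r * c.t = c.t * r ∧ r * g * r⁻¹ = g⁻¹ := by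
  obtain ⟨v, hv, h⟩ := exists_inverter3 _ (c.three_coord hg hg3)
  obtain ⟨hv, hvi, hvt⟩ := Finset.mem_filter.1 hv
  obtain ⟨r, rfl⟩ := coord_surj c.e hv
  have hr2 : orderOf (r : G) = 2 := (isInv3_coord_iff c.e r).1 hvi
  have hcomm : (r : G) * c.t = c.t * r := mem_Cg.1 r.2
  refine ⟨r, hr2, ?_, hcomm, ?_⟩
  · refine orderOf_eq_prime ?_ fun h1 => hvt ?_
    · rw [(show Commute (r : G) c.t from hcomm).mul_pow, sq, sq, Small.mul_self_of_orderOf_two hr2,
        Small.mul_self_of_orderOf_two c.ht, mul_one]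
    · rw [← coord_tC c.e c.ht, (coord_injective c.e).eq_iff]
      refine Subtype.ext ?_
      have := eq_inv_of_mul_eq_one_left h1
      rwa [Small.inv_eq_self_of_orderOf_two c.ht] at this
  · rw [← coord_mul, ← coord_mul, ← coord_mul, (coord_injective c.e).eq_iff] at h
    have h' : (r : G) * g * r = g * g := congrArg Subtype.val h
    rw [Small.inv_eq_self_of_orderOf_two hr2, h']
    exact eq_inv_of_mul_eq_one_left (by rw [← pow_three']; exact hg3 ▸ pow_orderOf_eq_one g)

theorem card_Cg_invol [IsSimpleGroup G] {u : G} (hu : orderOf u = 2) : Nat.card (Cg u) = 48 := by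
  rw [card_Cg_of_isConj (isConj_of_inv c.e c.ht hu)]
  exact card_centralizer c.e

theorem isA_of_mem {g : G} (hg : g ∈ Cg c.t) (hg3 : orderOf g = 3) : IsA g :=
  ⟨hg3, c.t, c.ht, (mem_Cg.1 hg).symm⟩

/-- An element of order three centralised by an involution can be moved into the centralizer. -/
theorem exists_conj_into [IsSimpleGroup G] {x : G} (hx : IsA x) :
    ∃ h : G, h * x * h⁻¹ ∈ Cg c.t ∧ orderOf (h * x * h⁻¹) = 3 := by
  obtain ⟨hx3, u, hu, hux⟩ := hx
  obtain ⟨h, hh⟩ := isConj_iff.1 (isConj_of_inv c.e c.ht hu).symm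
  refine ⟨h, ?_, by rw [Small.orderOf_conj_eq, hx3]⟩
  rw [← hh, mem_Cg_conj]
  exact mem_Cg.2 hux.symm

theorem isConj_A [IsSimpleGroup G] {x y : G} (hx : IsA x) (hy : IsA y) : IsConj x y := by
  obtain ⟨h, hh, hh3⟩ := c.exists_conj_into hx
  obtain ⟨k, hk, hk3⟩ := c.exists_conj_into hy
  exact ((isConj_iff.2 ⟨h, rfl⟩).trans (c.isConj_three hh hh3 hk hk3)).trans
    (isConj_iff.2 ⟨k, rfl⟩).symm

theorem not_four_dvd {g : G} (hg : g ∈ Cg c.t) (hg3 : orderOf g = 3) :
    ¬ 4 ∣ Nat.card (Cg g) := by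
  intro h4
  haveI : Fact (Nat.Prime 2) := ⟨Nat.prime_two⟩
  have htg : c.t ∈ Cg g := mem_Cg_comm.1 hg
  obtain ⟨K, hK, hle⟩ := Sylow.exists_subgroup_card_pow_succ (p := 2) (n := 1) (G := Cg g)
    (by simpa using h4) (H := Subgroup.zpowers (⟨c.t, htg⟩ : Cg g))
    (by rw [Nat.card_zpowers, Subgroup.orderOf_mk, c.ht, pow_one])
  haveI := IsPGroup.isMulCommutative_of_card_eq_prime_sq (p := 2) hK
  have h : Nat.card K ∣ Nat.card ↥(Cg g ⊓ Cg c.t : Subgroup G) := by
    rw [Nat.card_congr (K.equivMapOfInjective _ (Cg g).subtype_injective).toEquiv]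
    refine Subgroup.card_dvd_of_le ?_
    rintro _ ⟨k, hk, rfl⟩
    refine ⟨k.2, mem_Cg.2 ?_⟩
    have := Subgroup.mul_comm_of_mem_isMulCommutative K hk (hle (Subgroup.mem_zpowers _))
    exact congrArg Subtype.val this
  rw [hK, c.card_inter hg hg3] at h
  norm_num at h

/-- No element of order three commutes with an element of order thirteen. -/
theorem not_thirteen [IsSimpleGroup G] {g : G} (hg3 : orderOf g = 3) :
    ¬ 13 ∣ Nat.card (Cg g) := by
  haveI : Fact (Nat.Prime 13) := ⟨by norm_num⟩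
  haveI : Fact (Nat.Prime 2) := ⟨Nat.prime_two⟩
  intro h13
  have hnc : ¬ IsMulCommutative G := Small.not_comm_of_card c.hcard (by norm_num)
  obtain ⟨x, hx⟩ := exists_prime_orderOf_dvd_card' (G := Cg g) 13 h13
  obtain ⟨P, hP⟩ := (IsPGroup.of_card (n := 1) (p := 13)
    (G := Subgroup.zpowers (x : G)) (by
      rw [Nat.card_zpowers, Subgroup.orderOf_coe, hx, pow_one])).exists_le_sylow
  have hPc : Nat.card (P : Subgroup G) = 13 := by
    rw [P.card_eq_multiplicity, c.hcard]
    rw [show (5616 : ℕ) = 13 ^ 1 * 432 by norm_num, Nat.factorization_mul (by norm_num) (by norm_num),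
      Finsupp.add_apply, Nat.Prime.factorization_pow (by norm_num : Nat.Prime 13),
      Finsupp.single_eq_same, Nat.factorization_eq_zero_of_not_dvd (by norm_num), pow_one]
  have hPeq : (P : Subgroup G) = Subgroup.zpowers (x : G) := (Subgroup.eq_of_le_of_card_ge hP
    (by rw [hPc, Nat.card_zpowers, Subgroup.orderOf_coe, hx])).symm
  have hgC : g ∈ Subgroup.centralizer ((P : Subgroup G) : Set G) := by
    rw [hPeq, Subgroup.mem_centralizer_iff]
    intro b hb
    obtain ⟨k, rfl⟩ := Subgroup.mem_zpowers_iff.1 hb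
    have hcm : Commute (x : G) g := mem_Cg.1 x.2
    exact (hcm.zpow_left k).eq
  set N := Subgroup.normalizer ((P : Subgroup G) : Set G)
  set C := Subgroup.centralizer ((P : Subgroup G) : Set G)
  have hidx : Nat.card (Sylow 13 G) * Nat.card N = 5616 := by
    rw [P.card_eq_index_normalizer, mul_comm, ← c.hcard]
    exact Subgroup.card_mul_index N
  have hmod : Nat.card (Sylow 13 G) % 13 = 1 := card_sylow_modEq_one 13 G
  have hdiv : Nat.card (Sylow 13 G) ∣ 432 := by
    have := P.card_dvd_index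
    have h2 := (P : Subgroup G).card_mul_index
    rw [hPc, c.hcard] at h2
    rwa [show (P : Subgroup G).index = 432 by omega] at this
  have hrel := Small.card_centralizer_mul_relIndex (P : Subgroup G)
  have hmem := Small.relIndex_centralizer_mem hnc P hPc rfl
  obtain ⟨he, -, he1⟩ := Finset.mem_filter.1 hmem
  have he12 : C.relIndex N ∣ 12 := Nat.dvd_of_mem_divisors he
  have h3C : 3 ∣ Nat.card C := by
    rw [← hg3, ← Subgroup.orderOf_mk g hgC]; exact orderOf_dvd_natCard _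
  have h13C : 13 ∣ Nat.card C := by
    have hle : (P : Subgroup G) ≤ C := by
      intro a ha
      rw [Subgroup.mem_centralizer_iff]
      intro b hb
      rw [SetLike.mem_coe] at hb
      rw [hPeq] at ha hb
      obtain ⟨i, rfl⟩ := Subgroup.mem_zpowers_iff.1 ha
      obtain ⟨j, rfl⟩ := Subgroup.mem_zpowers_iff.1 hb
      rw [← _root_.zpow_add, ← _root_.zpow_add, add_comm]
    exact hPc ▸ Subgroup.card_dvd_of_le hle
  have hn : Nat.card (Sylow 13 G) = 1 ∨ Nat.card (Sylow 13 G) = 27 ∨ Nat.card (Sylow 13 G) = 144 := by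
    have : Nat.card (Sylow 13 G) ∈ (Nat.divisors 432).filter (fun d => d % 13 = 1) :=
      Finset.mem_filter.2 ⟨Nat.mem_divisors.2 ⟨hdiv, by norm_num⟩, hmod⟩
    rw [show (Nat.divisors 432).filter (fun d => d % 13 = 1) = {1, 27, 144} by decide] at this
    simpa using this
  obtain ⟨k, hk⟩ := Nat.Coprime.mul_dvd_of_dvd_of_dvd (by norm_num) h3C h13C
  rcases hn with h | h | h
  · rw [P.card_eq_index_normalizer, Subgroup.index_eq_one] at h
    rcases (Subgroup.normalizer_eq_top_iff.1 h).eq_bot_or_eq_top with hb | hb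
    · rw [hb, Subgroup.card_bot] at hPc; omega
    · rw [hb, Subgroup.card_top, c.hcard] at hPc; omega
  · rw [h] at hidx
    have : Nat.card N = 208 := by omega
    rw [this, hk] at hrel
    have : 3 ∣ 208 := ⟨13 * k * C.relIndex N, by rw [← hrel]; ring⟩
    norm_num at this
  · rw [h] at hidx
    have hN : Nat.card N = 39 := by omega
    rw [hN, hk] at hrel
    have : k * C.relIndex N = 1 := by
      have : 39 * (k * C.relIndex N) = 39 * 1 := by rw [mul_one, ← mul_assoc]; linarith [hrel]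
      exact Nat.eq_of_mul_eq_mul_left (by norm_num) this
    exact he1 (Nat.eq_one_of_mul_eq_one_left this)

end Ctx

end CfsgLib.GLTwoThreeRecog
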