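import Cfsg.Agent.GLTwoThreeRecog.Sylow

/-!
# The two classes of elementary abelian subgroups of order nine
-/

set_option autoImplicit false
set_option linter.style.haveILetI false

namespace CfsgLib.GLTwoThreeRecog

open CfsgLib.MElevenUnique (Cg Ng mem_Cg mem_Cg_comm card_Cg_of_isConj mem_Cg_conj)

universe u

variable {G : Type u} [Group G]

/-- An elementary abelian subgroup of order nine with normaliser of order 432, through `g`. -/
structure Nine (g : G) (P E : Subgroup G) : Prop where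
  card : Nat.card E = 9
  le : E ≤ P
  mem : g ∈ E
  comm : ∀ a ∈ E, ∀ b ∈ E, a * b = b * a
  card_normalizer : Nat.card (Ng E) = 432
  cent_le : Cg g ≤ Ng E
  sylow_le : P ≤ Ng E
  transitive : ∀ x ∈ E, x ≠ 1 → ∃ n ∈ Ng E, n * g * n⁻¹ = x

theorem pow_twentyseven {P : Subgroup G} (hP : Nat.card P = 27) {a : G} (ha : a ∈ P) : a ^ 27 = 1 :=
  hP ▸ congrArg Subtype.val (pow_card_eq_one' (x := (⟨a, ha⟩ : P)))

theorem conj_iter {p w z : G} (hpz : p * z = z * p) {m : ℕ} (hp : p * w * p⁻¹ = w * z ^ m) :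
    ∀ k : ℕ, p ^ k * w * (p ^ k)⁻¹ = w * z ^ (m * k) := by
  intro k
  induction k with
  | zero => simp
  | succ k ih =>
    calc p ^ (k + 1) * w * (p ^ (k + 1))⁻¹ = p * (p ^ k * w * (p ^ k)⁻¹) * p⁻¹ := by
          rw [pow_succ']; group
      _ = p * w * p⁻¹ * (p * z ^ (m * k) * p⁻¹) := by rw [ih]; group
      _ = w * z ^ m * z ^ (m * k) := by
          rw [hp, ((show Commute p z from hpz).pow_right (m * k)).eq, mul_inv_cancel_right]
      _ = w * z ^ (m * (k + 1)) := by rw [mul_assoc, ← pow_add]; ring_nf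

theorem exists_conj_pow {P : Subgroup G} {w z : G} (hz : orderOf z = 3)
    (hcomm : ∀ a ∈ P, a * w * a⁻¹ * w⁻¹ ∈ Subgroup.zpowers z) (hwz : Commute w z)
    (hPz : ∀ a ∈ P, a * z = z * a) (hnot : ∃ p ∈ P, p * w ≠ w * p) (j : ℕ) :
    ∃ p ∈ P, p * w * p⁻¹ = w * z ^ j := by
  obtain ⟨p, hp, hpw⟩ := hnot
  obtain ⟨m, hm⟩ := (IsOfFinOrder.mem_powers_iff_mem_zpowers
    (orderOf_pos_iff.1 (by omega : 0 < orderOf z))).2 (hcomm p hp)
  have hm' : p * w * p⁻¹ = w * z ^ m := by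
    have h1 : p * w * p⁻¹ = z ^ m * w := by
      rw [show z ^ m = p * w * p⁻¹ * w⁻¹ from hm]; group
    rw [h1]
    exact (hwz.pow_right m).symm.eq
  have hm3 : m % 3 ≠ 0 := by
    intro h
    rw [pow_mod_three hz, h, pow_zero, mul_one] at hm'
    exact hpw (mul_inv_eq_iff_eq_mul.1 hm')
  refine ⟨p ^ (m * j), P.pow_mem hp _, ?_⟩
  rw [conj_iter (hPz p hp) hm', pow_mod_three hz (m * (m * j)), pow_mod_three hz j]
  congr 2
  rcases (show m % 3 = 1 ∨ m % 3 = 2 by omega) with h | h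
  · rw [Nat.mul_mod, Nat.mul_mod m j, h]; omega
  · rw [Nat.mul_mod, Nat.mul_mod m j, h]; omega

namespace Ctx

variable [Finite G] [IsSimpleGroup G] (c : Ctx G)
include c

theorem exists_nine {g r : G} (hg : g ∈ Cg c.t) (hg3 : orderOf g = 3) (hr : orderOf r = 2)
    (hrt : orderOf (r * c.t) = 2) (hcomm : r * c.t = c.t * r) (hrg : r * g * r⁻¹ = g⁻¹)
    {P : Subgroup G} (hPle : P ≤ Cg g) (hP : Nat.card P = 27) (hgP : g ∈ P)
    (hn : ∀ n : G, (n * g * n⁻¹ = g ∨ n * g * n⁻¹ = g⁻¹) → ∀ y ∈ P, n * y * n⁻¹ ∈ P) :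
    ∃ y ∈ P, r * y * r⁻¹ = y ∧ c.t * y * c.t⁻¹ = y⁻¹ ∧ y ∉ Subgroup.zpowers g ∧
      Nine g P (P ⊓ Cg y) := by
  obtain ⟨y, hy, hry, hty, hyA, hyg⟩ := c.exists_lines hg hg3 hr hrt hcomm hrg hP hgP hn
  have hgA := c.isA_of_mem hg hg3
  refine ⟨y, hy, hry, hty, hyg, ?_⟩
  set E := P ⊓ Cg y with hE
  have hgy : g * y = y * g := (mem_Cg.1 (hPle hy)).symm
  have hgE : g ∈ E := ⟨hgP, mem_Cg.2 hgy⟩
  have hyE : y ∈ E := ⟨hy, mem_Cg.2 rfl⟩
  have hnotP : ¬ ∀ a ∈ P, a * y = y * a := fun h => hyg (c.central_mem hgA hP hPle hgP hy h)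
  have hE9 : Nat.card E = 9 := by
    have hd : Nat.card E ∈ Nat.divisors 27 :=
      Nat.mem_divisors.2 ⟨hP ▸ Subgroup.card_dvd_of_le inf_le_left, by norm_num⟩
    rw [show Nat.divisors 27 = {1, 3, 9, 27} by decide] at hd
    simp only [Finset.mem_insert, Finset.mem_singleton] at hd
    have hle : Subgroup.zpowers g ≤ E := Subgroup.zpowers_le.2 hgE
    have hd3 := Subgroup.card_dvd_of_le hle
    rw [Nat.card_zpowers, hg3] at hd3
    rcases hd with h | h | h | h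
    · rw [h] at hd3; norm_num at hd3
    · exfalso
      have heq := Subgroup.eq_of_le_of_card_ge hle (by rw [h, Nat.card_zpowers, hg3])
      exact hyg (heq ▸ hyE)
    · exact h
    · exfalso
      have heq : E = P := Subgroup.eq_of_le_of_card_ge inf_le_left (by rw [h, hP])
      refine hnotP fun a ha => ?_
      rw [← heq] at ha
      exact mem_Cg.1 ha.2
  have hEc : ∀ a ∈ E, ∀ b ∈ E, a * b = b * a := by
    haveI : Fact (Nat.Prime 3) := ⟨Nat.prime_three⟩
    intro a ha b hb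
    exact congrArg Subtype.val (IsPGroup.commutative_of_card_eq_prime_sq (p := 3) (G := E)
      (by rw [hE9]; norm_num) ⟨a, ha⟩ ⟨b, hb⟩)
  have hdec : ∀ x ∈ E, ∃ i j : ℕ, i < 3 ∧ j < 3 ∧ x = g ^ i * y ^ j := fun x hx =>
    decomp_nine hE9 hgE hyE hg3 hyA.1 hyg hx
  obtain ⟨Q, hQle, hQc, hyQ, hQmem, -⟩ := c.exists_threeA hyA
  have hEQ : E ≤ Q := fun a ha => hQmem a ha.2 (pow_twentyseven hP ha.1)
  have hPcomm := c.center_A hgA hP hPle hgP
  have hQcomm := c.center_A hyA hQc hQle hyQ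
  have hPN : P ≤ Ng E := fun p hp => mem_Ng_of_forall fun x hx => by
    rw [show p * x * p⁻¹ = p * x * p⁻¹ * x⁻¹ * x by group]
    exact E.mul_mem (Subgroup.zpowers_le.2 hgE (hPcomm p hp x hx.1)) hx
  have hQN : Q ≤ Ng E := fun p hp => mem_Ng_of_forall fun x hx => by
    rw [show p * x * p⁻¹ = p * x * p⁻¹ * x⁻¹ * x by group]
    exact E.mul_mem (Subgroup.zpowers_le.2 hyE (hQcomm p hp x (hEQ hx))) hx
  have htg : c.t * g * c.t⁻¹ = g := by rw [← mem_Cg.1 hg, mul_inv_cancel_right]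
  have hpow : ∀ (u a b : G) (i j : ℕ), u * (a ^ i * b ^ j) * u⁻¹ = (u * a * u⁻¹) ^ i * (u * b * u⁻¹) ^ j :=
    fun u a b i j => by rw [conj_pow, conj_pow]; group
  have htN : c.t ∈ Ng E := mem_Ng_of_forall fun x hx => by
    obtain ⟨i, j, -, -, rfl⟩ := hdec x hx
    rw [hpow, htg, hty]
    exact E.mul_mem (E.pow_mem hgE i) (E.pow_mem (E.inv_mem hyE) j)
  have hrN : r ∈ Ng E := mem_Ng_of_forall fun x hx => by
    obtain ⟨i, j, -, -, rfl⟩ := hdec x hx
    rw [hpow, hrg, hry]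
    exact E.mul_mem (E.pow_mem (E.inv_mem hgE) i) (E.pow_mem hyE j)
  have hCN : Cg g ≤ Ng E := by
    have h54 : 54 ∣ Nat.card ↥(Cg g ⊓ Ng E : Subgroup G) := by
      have h27 : 27 ∣ Nat.card ↥(Cg g ⊓ Ng E : Subgroup G) :=
        hP ▸ Subgroup.card_dvd_of_le (le_inf hPle hPN)
      have h2 : 2 ∣ Nat.card ↥(Cg g ⊓ Ng E : Subgroup G) := by
        rw [← c.ht, ← Subgroup.orderOf_mk c.t (Subgroup.mem_inf.2 ⟨mem_Cg_comm.1 hg, htN⟩ : c.t ∈ Cg g ⊓ Ng E)]
        exact orderOf_dvd_natCard _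
      exact Nat.Coprime.mul_dvd_of_dvd_of_dvd (by norm_num : Nat.Coprime 2 27) h2 h27
    intro x hx
    have := Subgroup.eq_of_le_of_card_ge (inf_le_left : Cg g ⊓ Ng E ≤ Cg g) (by
      rw [c.card_Cg_A hgA]; exact Nat.le_of_dvd Nat.card_pos h54)
    rw [← this] at hx
    exact hx.2
  -- all nontrivial elements are conjugate to `g` in the normaliser
  set O := {w : G | ∃ n ∈ Ng E, n * g * n⁻¹ = w}
  have hgO : g ∈ O := ⟨1, one_mem _, by group⟩
  have hOcl : ∀ w ∈ O, ∀ n ∈ Ng E, n * w * n⁻¹ ∈ O := by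
    rintro w ⟨m, hm, rfl⟩ n hn'
    exact ⟨n * m, mul_mem hn' hm, by group⟩
  have hgyO : ∀ j : ℕ, g * y ^ j ∈ O := by
    intro j
    obtain ⟨p, hp, hpe⟩ := exists_conj_pow hyA.1 (fun a ha => hQcomm a ha g (hEQ hgE)) hgy
      (fun a ha => mem_Cg.1 (hQle ha)) (by
        by_contra h
        push Not at h
        refine hyg ?_
        have := c.central_mem hyA hQc hQle hyQ (hEQ hgE) h
        rw [zpowers_eq_of_mem hyA.1 this (fun h1 => by rw [h1, orderOf_one] at hg3; omega)]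
        exact Subgroup.mem_zpowers y) j
    rw [← hpe]
    exact hOcl g hgO p (hQN hp)
  have hygO : ∀ j : ℕ, y * g ^ j ∈ O → ∀ k : ℕ, y * g ^ k ∈ O := by
    intro j hj k
    obtain ⟨p, hp, hpe⟩ := exists_conj_pow hg3 (fun a ha => hPcomm a ha (y * g ^ j) (P.mul_mem hy (P.pow_mem hgP j)))
      ((show Commute y g from hgy.symm).mul_left ((Commute.refl g).pow_left j))
      (fun a ha => mem_Cg.1 (hPle ha)) (by
        by_contra h
        push Not at h
        refine hnotP fun a ha => ?_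
        have h1 := h a ha
        have h2 : Commute a g := mem_Cg.1 (hPle ha)
        have h3 : a * y * g ^ j = y * a * g ^ j := by
          rw [mul_assoc, h1, mul_assoc, mul_assoc, (h2.pow_right j).eq]
        exact mul_right_cancel h3) (k + 2 * j)
    have h3 : y * g ^ j * g ^ (k + 2 * j) = y * g ^ k := by
      rw [mul_assoc, ← pow_add, pow_mod_three hg3 (j + (k + 2 * j)), pow_mod_three hg3 k]
      congr 2
      omega
    rw [← h3, ← hpe]
    exact hOcl _ hj p (hPN hp)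
  have hy1O : y * g ^ 1 ∈ O := by
    have := hgyO 1
    rwa [pow_one, hgy, ← pow_one g] at this
  have hinvg : g⁻¹ ∈ O := ⟨r, hrN, hrg⟩
  have hall : ∀ x ∈ E, x ≠ 1 → x ∈ O := by
    intro x hx hx1
    obtain ⟨i, j, hi, hj, rfl⟩ := hdec x hx
    have hg2 : g ^ 2 = g⁻¹ := eq_inv_of_mul_eq_one_left (by
      rw [← pow_succ, show 2 + 1 = orderOf g by rw [hg3]]; exact pow_orderOf_eq_one g)
    have hy2 : y ^ 2 = y⁻¹ :=
      eq_inv_of_mul_eq_one_left (by
        rw [← pow_succ, show 2 + 1 = orderOf y by rw [hyA.1]]; exact pow_orderOf_eq_one y)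
    rcases (show j = 0 ∨ j = 1 ∨ j = 2 by omega) with rfl | rfl | rfl
    · rcases (show i = 0 ∨ i = 1 ∨ i = 2 by omega) with rfl | rfl | rfl
      · simp at hx1
      · simpa using hgO
      · simpa [hg2] using hinvg
    · rw [pow_one, ((show Commute g y from hgy).pow_left i).eq]
      exact hygO 1 hy1O i
    · have h := hOcl _ (hygO 1 hy1O i) c.t htN
      have he : c.t * (y * g ^ i) * c.t⁻¹ = g ^ i * y ^ 2 := by
        rw [show c.t * (y * g ^ i) * c.t⁻¹ = c.t * y * c.t⁻¹ * (c.t * g ^ i * c.t⁻¹) by group, hty,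
          ← conj_pow, htg, hy2]
        exact ((show Commute g y from hgy).pow_left i).inv_right.eq.symm
      rwa [he] at h
  have hO : O = (E : Set G) \ {1} := by
    refine Set.Subset.antisymm ?_ fun x hx => hall x hx.1 hx.2
    rintro w ⟨n, hn', rfl⟩
    refine ⟨(Subgroup.mem_normalizer_iff.1 hn' g).1 hgE, fun h => ?_⟩
    rw [Set.mem_singleton_iff, conj_eq_one_iff] at h
    rw [h, orderOf_one] at hg3; omega
  refine ⟨hE9, inf_le_left, hgE, hEc, ?_, hCN, hPN, hall⟩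
  rw [← card_orbit_mul hCN, c.card_Cg_A hgA]
  show O.ncard * 54 = 432
  rw [hO, Set.ncard_sdiff (by simp [E.one_mem]), Set.ncard_singleton, ← Nat.card_coe_set_eq,
    show Nat.card (E : Set G) = 9 from hE9]

/-- Two such subgroups through `g` in the same Sylow subgroup. -/
theorem exists_pair : ∃ (g : G) (P E₁ E₂ : Subgroup G), IsA g ∧ Nat.card P = 27 ∧ P ≤ Cg g ∧
    g ∈ P ∧ Nine g P E₁ ∧ Nine g P E₂ ∧ (∀ x ∈ E₁, x ∈ E₂ → x ∈ Subgroup.zpowers g) ∧
    ∀ a ∈ E₁, ∀ b ∈ E₂, a * b = b * a → a ∈ Subgroup.zpowers g ∨ b ∈ Subgroup.zpowers g := by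
  obtain ⟨g, hg, hg3⟩ := c.exists_three
  have hgA := c.isA_of_mem hg hg3
  obtain ⟨P, hPle, hP, hgP, -, hn⟩ := c.exists_threeA hgA
  obtain ⟨r, hr, hrt, hcomm, hrg⟩ := c.exists_inverter hg hg3
  have htg : c.t * g * c.t⁻¹ = g := by rw [← mem_Cg.1 hg, mul_inv_cancel_right]
  have hrtg : r * c.t * g * (r * c.t)⁻¹ = g⁻¹ := by
    rw [show r * c.t * g * (r * c.t)⁻¹ = r * (c.t * g * c.t⁻¹) * r⁻¹ by group, htg, hrg]
  have hrtt : r * c.t * c.t = r := by
    rw [mul_assoc, Small.mul_self_of_orderOf_two c.ht, mul_one]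
  obtain ⟨y, hy, hry, hty, hyg, hN1⟩ := c.exists_nine hg hg3 hr hrt hcomm hrg hPle hP hgP hn
  obtain ⟨y', hy', hry', hty', hyg', hN2⟩ := c.exists_nine hg hg3 hrt (by rw [hrtt]; exact hr)
    (by rw [hrtt]; rw [← mul_assoc, ← hcomm, hrtt]) hrtg hPle hP hgP hn
  have hy3 : orderOf y = 3 := (c.line_eq hP hr hy hry hy (fun h => hyg (h ▸ one_mem _)) hry).2
  have hy3' : orderOf y' = 3 := (c.line_eq hP hrt hy' hry' hy' (fun h => hyg' (h ▸ one_mem _)) hry').2
  have hny : y' * y ≠ y * y' := by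
    intro h
    have hmem : y' ∈ P ⊓ Cg y := ⟨hy', mem_Cg.2 h⟩
    obtain ⟨i, j, hi, hj, hx⟩ := decomp_nine hN1.card hN1.mem ⟨hy, mem_Cg.2 rfl⟩ hg3 hy3 hyg hmem
    have e : r * c.t * y' * (r * c.t)⁻¹ = y'⁻¹ := by
      have h1 : r * c.t * y * (r * c.t)⁻¹ = y⁻¹ := by
        rw [show r * c.t * y * (r * c.t)⁻¹ = r * (c.t * y * c.t⁻¹) * r⁻¹ by group, hty, ← conj_inv, hry]
      rw [hx, show r * c.t * (g ^ i * y ^ j) * (r * c.t)⁻¹ =
        (r * c.t * g * (r * c.t)⁻¹) ^ i * (r * c.t * y * (r * c.t)⁻¹) ^ j by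
          rw [conj_pow, conj_pow]; group, hrtg, h1, _root_.mul_inv_rev, inv_pow, inv_pow]
      exact ((((show Commute g y from (mem_Cg.1 (hPle hy)).symm).pow_left i).pow_right j).inv_inv).eq
    rw [hry'] at e
    have h2 : y' ^ 2 = 1 := by rw [sq]; nth_rewrite 2 [e]; exact mul_inv_cancel _
    have := orderOf_dvd_of_pow_eq_one h2
    rw [hy3'] at this; norm_num at this
  refine ⟨g, P, _, _, hgA, hP, hPle, hgP, hN1, hN2, fun x hx hx' => ?_, fun a ha b hb hab => ?_⟩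
  · by_contra hxg
    obtain ⟨i, j, -, hj, rfl⟩ := decomp_nine hN1.card hN1.mem ⟨hy, mem_Cg.2 rfl⟩ hg3 hy3 hyg hx
    have hgy' : Commute (g ^ i) y' := ((show Commute g y' from (mem_Cg.1 (hPle hy')).symm).pow_left i)
    have h1 : Commute (g ^ i * y ^ j) y' := mem_Cg.1 hx'.2
    have h2 : Commute (y ^ j) y' := by
      have := hgy'.inv_left.mul_left h1
      rwa [← mul_assoc, inv_mul_cancel, one_mul] at this
    rcases (show j = 0 ∨ j = 1 ∨ j = 2 by omega) with rfl | rfl | rfl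
    · exact hxg (by simpa using Subgroup.pow_mem _ (Subgroup.mem_zpowers g) i)
    · rw [pow_one] at h2; exact hny h2.eq.symm
    · have h3 := h2.pow_left 2
      rw [← pow_mul, pow_mod_three hy3, pow_one] at h3
      exact hny h3.eq.symm
  · obtain ⟨i, j, -, hj, rfl⟩ := decomp_nine hN1.card hN1.mem ⟨hy, mem_Cg.2 rfl⟩ hg3 hy3 hyg ha
    obtain ⟨k, l, -, hl, rfl⟩ := decomp_nine hN2.card hN2.mem ⟨hy', mem_Cg.2 rfl⟩ hg3 hy3' hyg' hb
    by_cases hj0 : j = 0
    · subst hj0; left; simpa using Subgroup.pow_mem _ (Subgroup.mem_zpowers g) i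
    by_cases hl0 : l = 0
    · subst hl0; right; simpa using Subgroup.pow_mem _ (Subgroup.mem_zpowers g) k
    exfalso
    have cgy : ∀ (i : ℕ), Commute (g ^ i) y := fun i =>
      ((show Commute g y from (mem_Cg.1 (hPle hy)).symm).pow_left i)
    have cgy' : ∀ (i : ℕ), Commute (g ^ i) y' := fun i =>
      ((show Commute g y' from (mem_Cg.1 (hPle hy')).symm).pow_left i)
    have h1 : Commute (g ^ i * y ^ j) (g ^ k * y' ^ l) := hab
    have ha' : Commute (g ^ i * y ^ j) (g ^ k) :=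
      ((Commute.refl g).pow_pow i k).mul_left ((cgy k).pow_right j).symm
    have h2 : Commute (g ^ i * y ^ j) (y' ^ l) := by
      have := ha'.inv_right.mul_right h1
      rwa [← mul_assoc, inv_mul_cancel, one_mul] at this
    have h3 : Commute (y ^ j) (y' ^ l) := by
      have := ((cgy' i).pow_right l).inv_left.mul_left h2
      rwa [← mul_assoc, inv_mul_cancel, one_mul] at this
    have h4 := h3.pow_pow (if j = 1 then 1 else 2) (if l = 1 then 1 else 2)
    rw [← pow_mul, ← pow_mul, pow_mod_three hy3, pow_mod_three hy3',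
      show (j * if j = 1 then 1 else 2) % 3 = 1 by rcases (show j = 1 ∨ j = 2 by omega) with rfl | rfl <;> rfl,
      show (l * if l = 1 then 1 else 2) % 3 = 1 by rcases (show l = 1 ∨ l = 2 by omega) with rfl | rfl <;> rfl,
      pow_one, pow_one] at h4
    exact hny h4.eq.symm

end Ctx

end CfsgLib.GLTwoThreeRecog
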