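import Cfsg.Prelude.Def_Sporadic_a
import Cfsg.Agent.Design.SteinerCount
import Cfsg.Agent.Mathieu.Auto
import Cfsg.Agent.Mathieu.SteinerAut

/-!
# The projective plane of order three

Every Steiner system `S(2, 4, 13)` is a copy of a fixed one, whose automorphism group has order at
most 5616.
-/

set_option autoImplicit false

namespace CfsgLib.GLTwoThreeRecog.Plane

open Finset Cfsg

/-- The thirteen lines as masks: rows, columns, the line at infinity, graphs of permutations. -/
def mask : Fin 13 → ℕ :=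
  ![519, 568, 960, 1097, 1170, 1316, 7680, 2321, 2146, 2188, 4257, 4362, 4180]

/-- The point `x` is on the line `k`. -/
abbrev On (x k : Fin 13) : Prop := (mask k).testBit x = true

/-- The thirteen lines. -/
def line (k : Fin 13) : Finset (Fin 13) := univ.filter (On · k)

theorem mem_line {x k : Fin 13} : x ∈ line k ↔ On x k := by simp [line]

/-- A line through two points. -/
def thru (a b : Fin 13) : Fin 13 :=
  ((List.finRange 13).find? fun k => (mask k).testBit a && (mask k).testBit b).getD 0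

theorem thru_spec : ∀ a b : Fin 13, a ≠ b → On a (thru a b) ∧ On b (thru a b) := by decide +kernel

theorem thru_unique : ∀ k a b : Fin 13, a ≠ b → On a k → On b k → k = thru a b := by decide +kernel

theorem line_injective : Function.Injective line := by
  have h : ∀ k l : Fin 13, (∀ x, On x k ↔ On x l) → k = l := by decide +kernel
  exact fun k l hkl => h k l fun x => by rw [← mem_line, hkl, mem_line]

/-- The six permutations of three letters, the even ones first. -/
def pm : Fin 6 → Fin 3 → Fin 3 :=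
  ![![0, 1, 2], ![1, 2, 0], ![2, 0, 1], ![0, 2, 1], ![1, 0, 2], ![2, 1, 0]]

/-- The label of a cell. -/
def cellLabel (i j : Fin 3) : Fin 13 := ⟨3 * i.val + j.val, by omega⟩

/-- The label of the point at infinity of a permutation. -/
def classLabel (m : Fin 6) : Fin 13 := ⟨11 + m.val / 3, by omega⟩

theorem pm_inj : ∀ m : Fin 6, ∀ x y, pm m x = pm m y → x = y := by decide +kernel

theorem pm_injective : ∀ m m' : Fin 6, (∀ x, pm m x = pm m' x) → m = m' := by decide +kernel

theorem pm_eq_of_two : ∀ m : Fin 6, ∀ f : Fin 3 → Fin 3, (∀ x y, f x = f y → x = y) →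
    f 0 = pm m 0 → f 1 = pm m 1 → f = pm m := by decide +kernel

theorem pm_disjoint : ∀ m m' : Fin 6, m.val / 3 = m'.val / 3 → m ≠ m' → ∀ i, pm m i ≠ pm m' i := by
  decide +kernel

theorem pm_meet : ∀ m m' : Fin 6, m.val / 3 ≠ m'.val / 3 → ∃ i, pm m i = pm m' i := by decide +kernel

theorem label_cases : ∀ k : Fin 13, (∃ i j, k = cellLabel i j) ∨
    (k = 9 ∨ k = 10 ∨ ∃ m, k = classLabel m) := by decide +kernel

theorem line_cases : ∀ k : Fin 13,
    (∃ i : Fin 3, ∀ x, On x k → x = 9 ∨ ∃ j, x = cellLabel i j) ∨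
      (∃ j : Fin 3, ∀ x, On x k → x = 10 ∨ ∃ i, x = cellLabel i j) ∨
      (∀ x, On x k → x = 9 ∨ x = 10 ∨ ∃ m, x = classLabel m) ∨
      ∃ m, ∀ x, On x k → x = classLabel m ∨ ∃ i, x = cellLabel i (pm m i) := by decide +kernel

theorem card_line : ∀ k, (line k).card = 4 := by decide +kernel

section Frame

variable {α : Type*} [DecidableEq α] {L : Set (Finset α)}

theorem eq_of_two (hL : IsSteinerSystem 2 4 L) {l m : Finset α} (hl : l ∈ L) (hm : m ∈ L) {a b : α}
    (hab : a ≠ b) (hal : a ∈ l) (hbl : b ∈ l) (ham : a ∈ m) (hbm : b ∈ m) : l = m :=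
  (hL.2 {a, b} (card_pair hab)).unique
    ⟨hl, insert_subset hal (singleton_subset_iff.2 hbl)⟩
    ⟨hm, insert_subset ham (singleton_subset_iff.2 hbm)⟩

theorem eq_point (hL : IsSteinerSystem 2 4 L) {l m : Finset α} (hl : l ∈ L) (hm : m ∈ L)
    (hlm : l ≠ m) {a b : α} (hal : a ∈ l) (ham : a ∈ m) (hbl : b ∈ l) (hbm : b ∈ m) : a = b :=
  by_contra fun h => hlm (eq_of_two hL hl hm h hal hbl ham hbm)

theorem exists_line (hL : IsSteinerSystem 2 4 L) {a b : α} (hab : a ≠ b) :
    ∃ l ∈ L, a ∈ l ∧ b ∈ l := by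
  obtain ⟨l, ⟨hl, hs⟩, -⟩ := hL.2 {a, b} (card_pair hab)
  exact ⟨l, hl, hs (by simp), hs (by simp)⟩

variable [Fintype α]

theorem card_through (hL : IsSteinerSystem 2 4 L) (hα : Fintype.card α = 13) (a : α) :
    ((CfsgLib.Design.blocksFinset L).filter (a ∈ ·)).card = 4 := by
  classical
  have h := CfsgLib.Design.steiner_lambda hL {a} (by simp)
  simp only [card_singleton, singleton_subset_iff, hα] at h
  norm_num at h
  omega

theorem card_lines (hL : IsSteinerSystem 2 4 L) (hα : Fintype.card α = 13) :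
    (CfsgLib.Design.blocksFinset L).card = 13 := by
  classical
  have h := CfsgLib.Design.steiner_lambda hL ∅ (by simp)
  simp only [card_empty, empty_subset, filter_true_of_mem, implies_true, hα] at h
  norm_num [Nat.choose] at h
  omega

theorem exists_meet (hL : IsSteinerSystem 2 4 L) (hα : Fintype.card α = 13) {l m : Finset α}
    (hl : l ∈ L) (hm : m ∈ L) : ∃ x, x ∈ l ∧ x ∈ m := by
  classical
  have hne : l.Nonempty := card_pos.1 (by rw [hL.1 l hl]; norm_num)
  obtain ⟨a, ha⟩ := hne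
  by_cases ham : a ∈ m
  · exact ⟨a, ha, ham⟩
  choose f hfL hfa hfx using fun x : m =>
    exists_line hL (show a ≠ (x : α) from fun h => ham (h ▸ x.2))
  have hinj : Function.Injective f := fun x y h => Subtype.ext <| by_contra fun hne => ham <| by
    have := eq_of_two hL (hfL x) hm hne (hfx x) (h ▸ hfx y) x.2 y.2
    exact this ▸ hfa x
  have himg : (univ.image f) = (CfsgLib.Design.blocksFinset L).filter (a ∈ ·) := by
    refine eq_of_subset_of_card_le ?_ ?_
    · intro k hk
      obtain ⟨x, -, rfl⟩ := mem_image.1 hk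
      exact mem_filter.2 ⟨CfsgLib.Design.mem_blocksFinset.2 (hfL x), hfa x⟩
    · rw [card_through hL hα, card_image_of_injective _ hinj, card_univ, Fintype.card_coe,
        hL.1 m hm]
  have : l ∈ univ.image f := by
    rw [himg]; exact mem_filter.2 ⟨CfsgLib.Design.mem_blocksFinset.2 hl, ha⟩
  obtain ⟨x, -, hx⟩ := mem_image.1 this
  exact ⟨x, hx ▸ hfx x, x.2⟩

/-- The three further lines through a point of a line. -/
theorem exists_rows (hL : IsSteinerSystem 2 4 L) (hα : Fintype.card α = 13) {a : α} {linf : Finset α}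
    (hinf : linf ∈ L) (ha : a ∈ linf) :
    ∃ r : Fin 3 → Finset α, (∀ i, r i ∈ L ∧ a ∈ r i ∧ r i ≠ linf) ∧ Function.Injective r ∧
      ∀ l ∈ L, a ∈ l → l ≠ linf → ∃ i, r i = l := by
  classical
  set T := ((CfsgLib.Design.blocksFinset L).filter (a ∈ ·)).erase linf with hT
  have hmem : ∀ l, l ∈ T ↔ l ≠ linf ∧ l ∈ L ∧ a ∈ l := fun l => by
    simp [hT, CfsgLib.Design.mem_blocksFinset]
  have h3 : T.card = 3 := by
    rw [hT, card_erase_of_mem (mem_filter.2 ⟨CfsgLib.Design.mem_blocksFinset.2 hinf, ha⟩),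
      card_through hL hα]
  let e : T ≃ Fin 3 := Fintype.equivFinOfCardEq (by rw [Fintype.card_coe, h3])
  refine ⟨fun i => (e.symm i).1, fun i => ?_,
    fun i j h => e.symm.injective (Subtype.ext h), fun l hl hal hne => ?_⟩
  · obtain ⟨h1, h2, h4⟩ := (hmem _).1 (e.symm i).2
    exact ⟨h2, h4, h1⟩
  · exact ⟨e ⟨l, (hmem l).2 ⟨hne, hl, hal⟩⟩, by simp⟩

/-- **Coordinates.** -/
theorem exists_model (hL : IsSteinerSystem 2 4 L) (hα : Fintype.card α = 13) :
    ∃ φ : Fin 13 ≃ α, (fun s : Finset (Fin 13) => s.image φ) '' Set.range line = L := by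
  classical
  obtain ⟨a, b, hab⟩ := Fintype.exists_pair_of_one_lt_card (show 1 < Fintype.card α by omega)
  obtain ⟨linf, hinfL, hainf, hbinf⟩ := exists_line hL hab
  obtain ⟨r, hr, hrinj, hrall⟩ := exists_rows hL hα hinfL hainf
  obtain ⟨col, hcol, hcolinj, hcolall⟩ := exists_rows hL hα hinfL hbinf
  have hcola : ∀ j, a ∉ col j := fun j h =>
    (hcol j).2.2 (eq_of_two hL (hcol j).1 hinfL hab h (hcol j).2.1 hainf hbinf)
  have hrb : ∀ i, b ∉ r i := fun i h =>
    (hr i).2.2 (eq_of_two hL (hr i).1 hinfL hab (hr i).2.1 h hainf hbinf)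
  choose cell hcr hcc using fun i j => exists_meet hL hα (hr i).1 (hcol j).1
  have hca : ∀ i j, cell i j ≠ a := fun i j h => hcola j (h ▸ hcc i j)
  have hcb : ∀ i j, cell i j ≠ b := fun i j h => hrb i (h ▸ hcr i j)
  have hcinfty : ∀ i j, cell i j ∉ linf := fun i j h =>
    hca i j (eq_point hL (hr i).1 hinfL (hr i).2.2 (hcr i j) h (hr i).2.1 hainf)
  have hcell_inj : ∀ i i' j j', cell i j = cell i' j' → i = i' ∧ j = j' := fun i i' j j' h =>
    ⟨hrinj (eq_of_two hL (hr i).1 (hr i').1 (hca i j) (hcr i j) (hr i).2.1 (h ▸ hcr i' j')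
      (hr i').2.1),
    hcolinj (eq_of_two hL (hcol j).1 (hcol j').1 (hcb i j) (hcc i j) (hcol j).2.1 (h ▸ hcc i' j')
      (hcol j').2.1)⟩
  have hcell_cov : ∀ x, x ∉ linf → ∃ i j, x = cell i j := by
    intro x hx
    obtain ⟨l, hl, hal, hxl⟩ := exists_line hL (show a ≠ x from fun h => hx (h ▸ hainf))
    obtain ⟨m, hm, hbm, hxm⟩ := exists_line hL (show b ≠ x from fun h => hx (h ▸ hbinf))
    obtain ⟨i, hi⟩ := hrall l hl hal (fun h => hx (h ▸ hxl))
    obtain ⟨j, hj⟩ := hcolall m hm hbm (fun h => hx (h ▸ hxm))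
    exact ⟨i, j, eq_point hL (hr i).1 (hcol j).1 (fun h => hcola j (h ▸ (hr i).2.1))
      (hi ▸ hxl) (hj ▸ hxm) (hcr i j) (hcc i j)⟩
  let IsGraph : Finset α → (Fin 3 → Fin 3) → Prop := fun l f => l ∈ L ∧ a ∉ l ∧ b ∉ l ∧
    ∀ i j, cell i j ∈ l ↔ f i = j
  have hgraph : ∀ l ∈ L, a ∉ l → b ∉ l →
      ∃ f : Fin 3 → Fin 3, IsGraph l f ∧ ∀ x y, f x = f y → x = y := by
    intro l hl hal hbl
    choose P hPr hPl using fun i => exists_meet hL hα (hr i).1 hl
    have hPinf : ∀ i, P i ∉ linf := fun i h => hal (by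
      have := eq_point hL (hr i).1 hinfL (hr i).2.2 (hPr i) h (hr i).2.1 hainf
      exact this ▸ hPl i)
    choose f₀ f hf using fun i => hcell_cov (P i) (hPinf i)
    have hf' : ∀ i, P i = cell i (f i) := fun i => by
      have hi : f₀ i = i := hrinj <| eq_of_two hL (hr _).1 (hr i).1
        (show a ≠ P i from fun h => hal (h ▸ hPl i)) (hr _).2.1 (by rw [hf i]; exact hcr _ _)
        (hr i).2.1 (hPr i)
      rw [hf i, hi]
    refine ⟨f, ⟨hl, hal, hbl, fun i j => ⟨fun h => ?_, fun h => ?_⟩⟩, fun x y h => ?_⟩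
    · refine (hcell_inj i i (f i) j ?_).2
      rw [← hf']
      exact eq_point hL (hr i).1 hl (fun hh => hal (hh ▸ (hr i).2.1)) (hPr i) (hPl i) (hcr i j) h
    · rw [← h, ← hf']; exact hPl i
    · refine (hcell_inj x y (f x) (f y) ?_).1
      have h1 : cell x (f x) ∈ col (f y) := h ▸ hcc x (f x)
      exact eq_point hL (hcol (f y)).1 hl (fun hh => hbl (hh ▸ (hcol _).2.1)) h1
        (hf' x ▸ hPl x) (hcc y (f y)) (hf' y ▸ hPl y)
  have hall : ∀ m, ∃ l, IsGraph l (pm m) := by
    intro m
    obtain ⟨l, hl, h1, h2⟩ := exists_line hL (show cell 0 (pm m 0) ≠ cell 1 (pm m 1) from fun h =>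
      absurd (hcell_inj _ _ _ _ h).1 (by decide))
    have hal : a ∉ l := fun h => absurd (hrinj ((eq_of_two hL (hr 0).1 hl (hca 0 _).symm
      (hr 0).2.1 (hcr 0 _) h h1).trans (eq_of_two hL hl (hr 1).1 (hca 1 _).symm h h2
      (hr 1).2.1 (hcr 1 _)))) (by decide)
    have hbl : b ∉ l := fun h => absurd (pm_inj m 0 1 (hcolinj ((eq_of_two hL (hcol _).1 hl
      (hcb 0 (pm m 0)).symm (hcol _).2.1 (hcc 0 _) h h1).trans (eq_of_two hL hl (hcol _).1
      (hcb 1 (pm m 1)).symm h h2 (hcol _).2.1 (hcc 1 _))))) (by decide)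
    obtain ⟨f, hf, hinj⟩ := hgraph l hl hal hbl
    exact ⟨l, pm_eq_of_two m f hinj ((hf.2.2.2 0 _).1 h1) ((hf.2.2.2 1 _).1 h2) ▸ hf⟩
  choose gl hgl using hall
  choose W hWl hWinf using fun m => exists_meet hL hα (hgl m).1 hinfL
  have hglinf : ∀ m, gl m ≠ linf := fun m h => (hgl m).2.1 (h ▸ hainf)
  have hW : ∀ m m', m.val / 3 = m'.val / 3 → W m = W m' := by
    intro m m' h
    by_cases hmm : m = m'
    · rw [hmm]
    obtain ⟨x, hx, hx'⟩ := exists_meet hL hα (hgl m).1 (hgl m').1
    by_cases hxi : x ∈ linf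
    · exact (eq_point hL (hgl m).1 hinfL (hglinf m) (hWl m) (hWinf m) hx hxi).trans
        (eq_point hL (hgl m').1 hinfL (hglinf m') hx' hxi (hWl m') (hWinf m'))
    · obtain ⟨i, j, rfl⟩ := hcell_cov x hxi
      exact absurd (((hgl m).2.2.2 i j).1 hx |>.trans (((hgl m').2.2.2 i j).1 hx').symm)
        (pm_disjoint m m' h hmm i)
  have hW' : ∀ m m', m.val / 3 ≠ m'.val / 3 → W m ≠ W m' := by
    intro m m' h hWW
    obtain ⟨i, hi⟩ := pm_meet m m' h
    have hne : gl m ≠ gl m' := fun hl => h (by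
      rw [pm_injective m m' fun x =>
        (((hgl m').2.2.2 x (pm m x)).1 (hl ▸ ((hgl m).2.2.2 x _).2 rfl)).symm])
    exact hcinfty i (pm m i) (eq_point hL (hgl m).1 (hgl m').1 hne
      (((hgl m).2.2.2 i _).2 rfl) (((hgl m').2.2.2 i _).2 hi.symm) (hWl m) (hWW ▸ hWl m') ▸
      hWinf m)
  let φ : Fin 13 → α := fun k =>
    if h : k.val < 9 then cell ⟨k.val / 3, by omega⟩ ⟨k.val % 3, by omega⟩
    else if k = 9 then a else if k = 10 then b else
      W ⟨3 * (k.val - 11), by have := k.isLt; omega⟩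
  have hφcell : ∀ i j, φ (cellLabel i j) = cell i j := fun i j => by
    simp only [φ, cellLabel]
    rw [dif_pos (show 3 * i.val + j.val < 9 by omega)]
    congr 1 <;> exact Fin.ext (by simp only; omega)
  have hφ9 : φ 9 = a := rfl
  have hφ10 : φ 10 = b := rfl
  have hφclass : ∀ m : Fin 6, φ (classLabel m) = W m := fun m => by
    simp only [φ, classLabel]
    rw [dif_neg (by omega), if_neg (fun h => by simp [Fin.ext_iff] at h; omega),
      if_neg (fun h => by simp [Fin.ext_iff] at h; omega)]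
    exact hW _ _ (by simp only; omega)
  have hWa : ∀ m, W m ≠ a := fun m h => (hgl m).2.1 (h ▸ hWl m)
  have hWb : ∀ m, W m ≠ b := fun m h => (hgl m).2.2.1 (h ▸ hWl m)
  have hφinf : ∀ k, (k = 9 ∨ k = 10 ∨ ∃ m, k = classLabel m) → φ k ∈ linf := by
    rintro k (rfl | rfl | ⟨m, rfl⟩)
    exacts [hainf, hbinf, hφclass m ▸ hWinf m]
  have hinj : Function.Injective φ := by
    intro k k' h
    rcases label_cases k with ⟨i, j, rfl⟩ | hk <;> rcases label_cases k' with ⟨i', j', rfl⟩ | hk'
    · rw [hφcell, hφcell] at h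
      obtain ⟨rfl, rfl⟩ := hcell_inj _ _ _ _ h; rfl
    · exact absurd (h ▸ hφinf k' hk') (by rw [hφcell]; exact hcinfty i j)
    · exact absurd (h.symm ▸ hφinf k hk) (by rw [hφcell]; exact hcinfty i' j')
    · rcases hk with rfl | rfl | ⟨m, rfl⟩ <;> rcases hk' with rfl | rfl | ⟨m', rfl⟩ <;>
        simp only [hφ9, hφ10, hφclass] at h
      · rfl
      · exact absurd h hab
      · exact absurd h.symm (hWa m')
      · exact absurd h.symm hab
      · rfl
      · exact absurd h.symm (hWb m')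
      · exact absurd h (hWa m)
      · exact absurd h (hWb m)
      · by_cases hq : m.val / 3 = m'.val / 3
        · exact Fin.ext (by simp only [classLabel]; omega)
        · exact absurd h (hW' m m' hq)
  have hsub : ∀ k, (line k).image φ ∈ L := by
    intro k
    have key : ∀ l ∈ L, (∀ x, On x k → φ x ∈ l) → (line k).image φ ∈ L := fun l hl hx => by
      rw [eq_of_subset_of_card_le (image_subset_iff.2 fun x h => hx x (mem_line.1 h)) (by
        rw [card_image_of_injective _ hinj, card_line, hL.1 l hl])]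
      exact hl
    rcases line_cases k with ⟨i, hk⟩ | ⟨j, hk⟩ | hk | ⟨m, hk⟩
    · refine key (r i) (hr i).1 fun x hx => ?_
      rcases hk x hx with rfl | ⟨j, rfl⟩
      exacts [(hr i).2.1, hφcell i j ▸ hcr i j]
    · refine key (col j) (hcol j).1 fun x hx => ?_
      rcases hk x hx with rfl | ⟨i, rfl⟩
      exacts [(hcol j).2.1, hφcell i j ▸ hcc i j]
    · exact key linf hinfL fun x hx => hφinf x (hk x hx)
    · refine key (gl m) (hgl m).1 fun x hx => ?_
      rcases hk x hx with rfl | ⟨i, rfl⟩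
      exacts [hφclass m ▸ hWl m, by rw [hφcell]; exact ((hgl m).2.2.2 i _).2 rfl]
  have himg : (univ.image fun k => (line k).image φ) = CfsgLib.Design.blocksFinset L := by
    refine eq_of_subset_of_card_le (fun l hl => ?_) ?_
    · obtain ⟨k, -, rfl⟩ := mem_image.1 hl
      exact CfsgLib.Design.mem_blocksFinset.2 (hsub k)
    · rw [card_lines hL hα, card_image_of_injective _
        (show Function.Injective fun k => (line k).image φ from
          (image_injective hinj).comp line_injective), card_univ, Fintype.card_fin]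
  refine ⟨Equiv.ofBijective φ ((Fintype.bijective_iff_injective_and_card φ).2 ⟨hinj, by simp [hα]⟩), ?_⟩
  ext l
  rw [← CfsgLib.Design.mem_blocksFinset (B := L), ← himg]
  simp only [mem_image, mem_univ, true_and, Set.mem_image, Set.mem_range, exists_exists_eq_and]
  rfl

end Frame

/-! ### The automorphisms of the fixed plane -/

theorem exists_image {σ : Equiv.Perm (Fin 13)} (hσ : σ ∈ setSystemAut (Set.range line)) (k : Fin 13) :
    ∃ k', (line k).image σ = line k' := by
  rw [CfsgLib.Mathieu.mem_setSystemAut_iff] at hσ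
  obtain ⟨k', hk⟩ : (line k).image σ ∈ Set.range line := hσ ▸ ⟨line k, ⟨k, rfl⟩, rfl⟩
  exact ⟨k', hk.symm⟩

theorem on_thru {σ : Equiv.Perm (Fin 13)} (hσ : σ ∈ setSystemAut (Set.range line)) {a b x : Fin 13}
    (hab : a ≠ b) : On (σ x) (thru (σ a) (σ b)) ↔ On x (thru a b) := by
  obtain ⟨k', hk⟩ := exists_image hσ (thru a b)
  have hiff : ∀ y, On (σ y) k' ↔ On y (thru a b) := fun y => by
    rw [← mem_line, ← hk, σ.injective.mem_finset_image, mem_line]
  rw [← thru_unique k' (σ a) (σ b) (σ.injective.ne hab) ((hiff a).2 (thru_spec a b hab).1)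
    ((hiff b).2 (thru_spec a b hab).2)]
  exact hiff x

theorem eq_one_of_fix {σ : Equiv.Perm (Fin 13)} (hσ : σ ∈ setSystemAut (Set.range line))
    (h9 : σ 9 = 9) (h10 : σ 10 = 10) (h0 : σ 0 = 0) (h4 : σ 4 = 4) : σ = 1 := by
  have hmeet : ∀ a b c d : Fin 13, ∀ x, a ≠ b → c ≠ d →
      (∀ y, On y (thru a b) → On y (thru c d) → y = x) → On x (thru a b) → On x (thru c d) →
      σ a = a → σ b = b → σ c = c → σ d = d → σ x = x := by
    intro a b c d x hab hcd huniq hx hx' ha hb hc hd
    refine huniq _ ?_ ?_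
    · have := (on_thru hσ (x := x) hab).2 hx
      rwa [ha, hb] at this
    · have := (on_thru hσ (x := x) hcd).2 hx'
      rwa [hc, hd] at this
  have h1 := hmeet 9 0 10 4 1 (by decide) (by decide) (by decide +kernel) (by decide +kernel)
    (by decide +kernel) h9 h0 h10 h4
  have h3 := hmeet 9 4 10 0 3 (by decide) (by decide) (by decide +kernel) (by decide +kernel)
    (by decide +kernel) h9 h4 h10 h0
  have h8 := hmeet 0 4 1 3 8 (by decide) (by decide) (by decide +kernel) (by decide +kernel)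
    (by decide +kernel) h0 h4 h1 h3
  have h11 := hmeet 9 10 0 4 11 (by decide) (by decide) (by decide +kernel) (by decide +kernel)
    (by decide +kernel) h9 h10 h0 h4
  have h12 := hmeet 9 10 1 3 12 (by decide) (by decide) (by decide +kernel) (by decide +kernel)
    (by decide +kernel) h9 h10 h1 h3
  have h2 := hmeet 9 0 10 8 2 (by decide) (by decide) (by decide +kernel) (by decide +kernel)
    (by decide +kernel) h9 h0 h10 h8
  have h5 := hmeet 9 4 10 8 5 (by decide) (by decide) (by decide +kernel) (by decide +kernel)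
    (by decide +kernel) h9 h4 h10 h8
  have h6 := hmeet 10 0 9 8 6 (by decide) (by decide) (by decide +kernel) (by decide +kernel)
    (by decide +kernel) h10 h0 h9 h8
  have h7 := hmeet 10 4 9 8 7 (by decide) (by decide) (by decide +kernel) (by decide +kernel)
    (by decide +kernel) h10 h4 h9 h8
  refine Equiv.ext fun x => ?_
  rcases (by decide +kernel : ∀ x : Fin 13, x = 0 ∨ x = 1 ∨ x = 2 ∨ x = 3 ∨ x = 4 ∨ x = 5 ∨ x = 6 ∨
    x = 7 ∨ x = 8 ∨ x = 9 ∨ x = 10 ∨ x = 11 ∨ x = 12) x
    with rfl | rfl | rfl | rfl | rfl | rfl | rfl | rfl | rfl | rfl | rfl | rfl | rfl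
  exacts [h0, h1, h2, h3, h4, h5, h6, h7, h8, h9, h10, h11, h12]

theorem card_good_third : ∀ a b : Fin 13, a ≠ b →
    (univ.filter fun c => ¬ On c (thru a b)).card = 9 := by decide +kernel

theorem card_good_fourth : ∀ a b c : Fin 13, a ≠ b → ¬ On c (thru a b) →
    (univ.filter fun e => ¬ On e (thru a b) ∧ ¬ On e (thru a c) ∧ ¬ On e (thru b c)).card = 4 := by
  decide +kernel

/-- The quadrangles. -/
def quads : Finset (Fin 13 × Fin 13 × Fin 13 × Fin 13) :=
  (univ : Finset (Fin 13)).biUnion fun a =>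
    ((univ : Finset (Fin 13)).erase a).biUnion fun b =>
      (univ.filter fun c => ¬ On c (thru a b)).biUnion fun c =>
        (univ.filter fun e => ¬ On e (thru a b) ∧ ¬ On e (thru a c) ∧ ¬ On e (thru b c)).image
          fun e => (a, b, c, e)

theorem mem_quads {a b c e : Fin 13} (hab : a ≠ b) (hc : ¬ On c (thru a b))
    (he : ¬ On e (thru a b) ∧ ¬ On e (thru a c) ∧ ¬ On e (thru b c)) : (a, b, c, e) ∈ quads := by
  simp only [quads, mem_biUnion, mem_image, mem_filter, mem_erase, mem_univ, true_and, and_true]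
  exact ⟨a, b, hab.symm, c, hc, e, he, rfl⟩

theorem card_quads_le : quads.card ≤ 5616 := by
  refine (card_biUnion_le_card_mul _ _ 432 fun a _ => ?_).trans (by simp)
  refine (card_biUnion_le_card_mul _ _ 36 fun b hb => ?_).trans (by simp)
  have hab : a ≠ b := (mem_erase.1 hb).1.symm
  refine (card_biUnion_le_card_mul _ _ 4 fun c hc => ?_).trans (by rw [card_good_third a b hab])
  exact card_image_le.trans (card_good_fourth a b c hab (mem_filter.1 hc).2).le

theorem card_aut_le : Nat.card (setSystemAut (Set.range line)) ≤ 5616 := by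
  refine le_trans ?_ card_quads_le
  rw [← Nat.card_eq_finsetCard quads]
  refine Nat.card_le_card_of_injective (fun σ => ⟨(σ.1 9, σ.1 10, σ.1 0, σ.1 4), ?_⟩) ?_
  · refine mem_quads (σ.1.injective.ne (by decide)) ?_ ⟨?_, ?_, ?_⟩ <;>
      rw [on_thru σ.2 (by decide)] <;> decide +kernel
  · intro σ τ h
    simp only [Subtype.mk.injEq, Prod.mk.injEq] at h
    obtain ⟨h1, h2, h3, h4⟩ := h
    have hmem : (σ⁻¹ * τ : setSystemAut (Set.range line)).1 = 1 :=
      eq_one_of_fix (σ⁻¹ * τ).2 (by simp [← h1]) (by simp [← h2]) (by simp [← h3]) (by simp [← h4])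
    exact inv_mul_eq_one.1 (Subtype.ext hmem)

/-- A group of order 5616 acting faithfully on a plane of order three is its automorphism group. -/
theorem nonempty_mulEquiv {G : Type*} [Group G] [Finite G] (hG : Nat.card G = 5616) {α : Type*}
    [Fintype α] [DecidableEq α] (hα : Fintype.card α = 13) {L : Set (Finset α)}
    (hL : IsSteinerSystem 2 4 L) (f : G →* Equiv.Perm α) (hf : Function.Injective f)
    (hfL : ∀ g, f g ∈ setSystemAut L) : Nonempty (G ≃* setSystemAut (Set.range line)) := by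
  obtain ⟨φ, hφ⟩ := exists_model hL hα
  let e := (CfsgLib.Mathieu.setSystemAutCongr φ hφ).symm
  let h : G →* setSystemAut (Set.range line) := e.toMonoidHom.comp (f.codRestrict _ hfL)
  have hh : Function.Injective h := fun x y hxy => hf (congrArg Subtype.val (e.injective hxy))
  exact ⟨MulEquiv.ofBijective h (hh.bijective_of_nat_card_le (hG ▸ card_aut_le))⟩

end CfsgLib.GLTwoThreeRecog.Plane
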