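import Cfsg.Agent.GLTwoThreeRecog.Elementary
import Cfsg.Agent.GLTwoThreeRecog.Plane

/-!
# The plane of order three of a simple group of order 5616

Points are the conjugates of one elementary abelian subgroup of order nine, lines those of the other.
-/

set_option autoImplicit false
set_option linter.style.haveILetI false
set_option linter.unusedSectionVars false

namespace CfsgLib.GLTwoThreeRecog

open CfsgLib.MElevenUnique (Cg Ng mem_Cg mem_Cg_comm card_Cg_of_isConj mem_Cg_conj)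
open scoped Pointwise

universe u

variable {G : Type u} [Group G]

/-- The subgroup attached to a coset of its normaliser. -/
def sub (E : Subgroup G) (p : G ⧸ Ng E) : Set G :=
  Quotient.liftOn' p (fun x => {a : G | x⁻¹ * a * x ∈ E}) (fun x y h => by
    have h' : x⁻¹ * y ∈ Ng E := QuotientGroup.leftRel_apply.1 h
    ext a
    show x⁻¹ * a * x ∈ E ↔ y⁻¹ * a * y ∈ E
    rw [show y⁻¹ * a * y = (x⁻¹ * y)⁻¹ * (x⁻¹ * a * x) * (x⁻¹ * y) by group]
    have := (Subgroup.mem_normalizer_iff.1 h') ((x⁻¹ * y)⁻¹ * (x⁻¹ * a * x) * (x⁻¹ * y))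
    rw [show x⁻¹ * y * ((x⁻¹ * y)⁻¹ * (x⁻¹ * a * x) * (x⁻¹ * y)) * (x⁻¹ * y)⁻¹ = x⁻¹ * a * x by group] at this
    exact this.symm)

theorem mem_sub_mk {E : Subgroup G} {x a : G} : a ∈ sub E (x : G ⧸ Ng E) ↔ x⁻¹ * a * x ∈ E := Iff.rfl

theorem mem_sub_one {E : Subgroup G} {a : G} : a ∈ sub E ((1 : G) : G ⧸ Ng E) ↔ a ∈ E := by
  rw [mem_sub_mk]; simp

theorem mem_sub_smul {E : Subgroup G} (k : G) {p : G ⧸ Ng E} {a : G} :
    a ∈ sub E (k • p) ↔ k⁻¹ * a * k ∈ sub E p := by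
  induction p using QuotientGroup.induction_on with
  | _ x =>
    rw [MulAction.Quotient.smul_coe, mem_sub_mk, mem_sub_mk, smul_eq_mul]
    rw [show (k * x)⁻¹ * a * (k * x) = x⁻¹ * (k⁻¹ * a * k) * x by group]

theorem pow_mem_sub {E : Subgroup G} {p : G ⧸ Ng E} {a : G} (h : a ∈ sub E p) (n : ℕ) :
    a ^ n ∈ sub E p := by
  induction p using QuotientGroup.induction_on with
  | _ x =>
    rw [mem_sub_mk] at h ⊢
    rw [show x⁻¹ * a ^ n * x = (x⁻¹ * a * x) ^ n by
      simpa using (conj_pow (i := n) (a := x⁻¹) (b := a)).symm]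
    exact E.pow_mem h n

namespace Nine

variable {g : G} {P E : Subgroup G} (h : Nine g P E)
include h

theorem mem_Ng {x a : G} (ha : a ∈ E) (ha1 : a ≠ 1) (hax : x⁻¹ * a * x ∈ E) : x ∈ Ng E := by
  obtain ⟨n, hn, hna⟩ := h.transitive a ha ha1
  obtain ⟨m, hm, hma⟩ := h.transitive (x⁻¹ * a * x) hax (fun h1 => ha1 (by
    have h1' : x * (x⁻¹ * a * x) * x⁻¹ = x * 1 * x⁻¹ := by rw [h1]
    rwa [show x * (x⁻¹ * a * x) * x⁻¹ = a by group, mul_one, mul_inv_cancel] at h1'))
  have hC : n⁻¹ * x * m ∈ Ng E := h.cent_le (mem_Cg.2 (by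
    calc n⁻¹ * x * m * g = n⁻¹ * (x * (m * g * m⁻¹) * x⁻¹) * (x * m) := by group
      _ = n⁻¹ * a * (x * m) := by rw [hma]; group
      _ = g * (n⁻¹ * x * m) := by rw [← hna]; group))
  have hx := mul_mem (mul_mem hn hC) (inv_mem hm)
  rwa [show n * (n⁻¹ * x * m) * m⁻¹ = x by group] at hx

theorem sub_unique {p q : G ⧸ Ng E} {a : G} (ha1 : a ≠ 1) (hp : a ∈ sub E p) (hq : a ∈ sub E q) :
    p = q := by
  induction p using QuotientGroup.induction_on with
  | _ x =>
    induction q using QuotientGroup.induction_on with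
    | _ y =>
      rw [mem_sub_mk] at hp hq
      refine QuotientGroup.eq.2 (h.mem_Ng hp (fun h1 => ha1 ?_) ?_)
      · have h1' : x * (x⁻¹ * a * x) * x⁻¹ = x * 1 * x⁻¹ := by rw [h1]
        rwa [show x * (x⁻¹ * a * x) * x⁻¹ = a by group, mul_one, mul_inv_cancel] at h1'
      · rwa [show (x⁻¹ * y)⁻¹ * (x⁻¹ * a * x) * (x⁻¹ * y) = y⁻¹ * a * y by group]

theorem card_cosets [Finite G] (hG : Nat.card G = 5616) : Nat.card (G ⧸ Ng E) = 13 := by
  have h1 := Subgroup.card_mul_index (Ng E)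
  rw [h.card_normalizer, hG, Subgroup.index_eq_card] at h1
  omega

end Nine

/-- Two elementary abelian subgroups of order nine as in `Ctx.exists_pair`. -/
structure Flag (g : G) (P E₁ E₂ : Subgroup G) : Prop where
  card_G : Nat.card G = 5616
  order : orderOf g = 3
  point : Nine g P E₁
  block : Nine g P E₂
  inter : ∀ x ∈ E₁, x ∈ E₂ → x ∈ Subgroup.zpowers g
  free : ∀ a ∈ E₁, ∀ b ∈ E₂, a * b = b * a → a ∈ Subgroup.zpowers g ∨ b ∈ Subgroup.zpowers g
  center : ∀ a ∈ P, ∀ b ∈ P, a * b * a⁻¹ * b⁻¹ ∈ Subgroup.zpowers g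
  cent : P ≤ Cg g

/-- Incidence: the two subgroups meet nontrivially. -/
def Inc (E₁ E₂ : Subgroup G) (p : G ⧸ Ng E₁) (q : G ⧸ Ng E₂) : Prop :=
  ∃ a : G, a ≠ 1 ∧ a ∈ sub E₁ p ∧ a ∈ sub E₂ q

/-- The points on a line. -/
def pts (E₁ E₂ : Subgroup G) (q : G ⧸ Ng E₂) : Set (G ⧸ Ng E₁) := {p | Inc E₁ E₂ p q}

theorem inc_smul {E₁ E₂ : Subgroup G} {p : G ⧸ Ng E₁} {q : G ⧸ Ng E₂} (h : Inc E₁ E₂ p q) (k : G) :
    Inc E₁ E₂ (k • p) (k • q) := by
  obtain ⟨a, ha1, hap, haq⟩ := h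
  refine ⟨k * a * k⁻¹, fun h1 => ha1 (conj_eq_one_iff.1 h1), ?_, ?_⟩ <;>
    rw [mem_sub_smul, show k⁻¹ * (k * a * k⁻¹) * k = a by group] <;> assumption

theorem pts_smul {E₁ E₂ : Subgroup G} (k : G) (q : G ⧸ Ng E₂) :
    pts E₁ E₂ (k • q) = k • pts E₁ E₂ q := by
  ext p
  rw [Set.mem_smul_set_iff_inv_smul_mem]
  refine ⟨fun h => ?_, fun h => ?_⟩
  · have := inc_smul (k := k⁻¹) h
    rwa [inv_smul_smul] at this
  · have := inc_smul (k := k) (show Inc E₁ E₂ (k⁻¹ • p) q from h)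
    rwa [smul_inv_smul] at this

namespace Flag

variable [Finite G] {g : G} {P E₁ E₂ : Subgroup G} (h : Flag g P E₁ E₂)
include h

theorem ne_one : g ≠ 1 := fun h1 => by
  have := h.order
  rw [h1, orderOf_one] at this
  omega

/-- The group is transitive on flags. -/
theorem exists_flag {p : G ⧸ Ng E₁} {q : G ⧸ Ng E₂} (hpq : Inc E₁ E₂ p q) :
    ∃ k : G, k • ((1 : G) : G ⧸ Ng E₁) = p ∧ k • ((1 : G) : G ⧸ Ng E₂) = q := by
  obtain ⟨a, ha1, hap, haq⟩ := hpq
  induction p using QuotientGroup.induction_on with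
  | _ x =>
    rw [mem_sub_mk] at hap
    have hb1 : x⁻¹ * a * x ≠ 1 := fun h1 => ha1 (by
      have h1' : x * (x⁻¹ * a * x) * x⁻¹ = x * 1 * x⁻¹ := by rw [h1]
      rwa [show x * (x⁻¹ * a * x) * x⁻¹ = a by group, mul_one, mul_inv_cancel] at h1')
    obtain ⟨n, hn, hna⟩ := h.point.transitive _ hap hb1
    have hka : x * n * g * (x * n)⁻¹ = a := by
      calc x * n * g * (x * n)⁻¹ = x * (n * g * n⁻¹) * x⁻¹ := by group
        _ = a := by rw [hna]; group
    refine ⟨x * n, ?_, h.block.sub_unique ha1 ?_ haq⟩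
    · rw [MulAction.Quotient.smul_coe, smul_eq_mul, mul_one]
      exact QuotientGroup.eq.2 (by rw [show (x * n)⁻¹ * x = n⁻¹ by group]; exact inv_mem hn)
    · rw [mem_sub_smul, mem_sub_one, ← hka, show (x * n)⁻¹ * (x * n * g * (x * n)⁻¹) * (x * n) = g by group]
      exact h.block.mem

theorem smul_block_one {n : G} (hn : n ∈ Ng E₂) :
    n • ((1 : G) : G ⧸ Ng E₂) = ((1 : G) : G ⧸ Ng E₂) := by
  rw [MulAction.Quotient.smul_coe, smul_eq_mul, mul_one]
  exact QuotientGroup.eq.2 (by rw [mul_one]; exact inv_mem hn)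

theorem card_pts_one : (pts E₁ E₂ ((1 : G) : G ⧸ Ng E₂)).ncard = 4 := by
  classical
  haveI : Fintype G := Fintype.ofFinite G
  haveI : Fintype (G ⧸ Ng E₁) := Fintype.ofFinite _
  have hpt : ∀ a : G, a ∈ E₂ ∧ a ≠ 1 → ∃ p, a ∈ sub E₁ p := by
    rintro a ⟨ha, ha1⟩
    obtain ⟨n, -, hna⟩ := h.block.transitive a ha ha1
    refine ⟨(n : G ⧸ Ng E₁), ?_⟩
    rw [mem_sub_mk, ← hna, show n⁻¹ * (n * g * n⁻¹) * n = g by group]
    exact h.point.mem
  choose! f hf using hpt
  set S : Finset G := Finset.univ.filter fun a => a ∈ E₂ ∧ a ≠ 1 with hSdef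
  have hS : S.card = 8 := by
    have h9 : (Finset.univ.filter fun a => a ∈ E₂).card = 9 := by
      rw [← h.block.card, Nat.card_eq_fintype_card, Fintype.card_subtype]
    rw [hSdef, show (Finset.univ.filter fun a => a ∈ E₂ ∧ a ≠ 1) =
      (Finset.univ.filter fun a => a ∈ E₂).erase 1 by ext a; simp [and_comm],
      Finset.card_erase_of_mem (by simp [E₂.one_mem]), h9]
  have hmap : ∀ a ∈ S, f a ∈ (Finset.univ.filter fun p => Inc E₁ E₂ p ((1 : G) : G ⧸ Ng E₂)) := by
    intro a ha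
    rw [hSdef, Finset.mem_filter] at ha
    exact Finset.mem_filter.2 ⟨Finset.mem_univ _, a, ha.2.2, hf a ha.2, mem_sub_one.2 ha.2.1⟩
  have hcard := Finset.card_eq_sum_card_fiberwise hmap
  rw [Finset.sum_const_nat (m := 2), hS] at hcard
  · rw [show pts E₁ E₂ ((1 : G) : G ⧸ Ng E₂) =
      ↑(Finset.univ.filter fun p => Inc E₁ E₂ p ((1 : G) : G ⧸ Ng E₂)) by ext p; simp [pts],
      Set.ncard_coe_finset]
    omega
  intro p hp
  obtain ⟨k, hk1, hk2⟩ := h.exists_flag (Finset.mem_filter.1 hp).2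
  have hgg : g⁻¹ ≠ g := fun hh => by
    have h2 : g ^ 2 = 1 := by rw [sq]; nth_rewrite 1 [← hh]; exact inv_mul_cancel g
    have := orderOf_dvd_of_pow_eq_one h2
    rw [h.order] at this; norm_num at this
  have hset : S.filter (fun a => f a = p) = {k * g * k⁻¹, k * g⁻¹ * k⁻¹} := by
    ext a
    simp only [hSdef, Finset.mem_filter, Finset.mem_univ, true_and, Finset.mem_insert, Finset.mem_singleton]
    have h2 : a ∈ E₂ ↔ k⁻¹ * a * k ∈ E₂ := by
      rw [← mem_sub_one (E := E₂) (a := a), ← mem_sub_one (E := E₂) (a := k⁻¹ * a * k), ← mem_sub_smul, hk2]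
    constructor
    · rintro ⟨ha, hfa⟩
      have h1 := hf a ha
      rw [hfa, ← hk1, mem_sub_smul, mem_sub_one] at h1
      have hz := h.inter _ h1 (h2.1 ha.1)
      rcases mem_zpowers_three h.order hz with e | e | e
      · exact absurd (show a = 1 by
          rw [show a = k * (k⁻¹ * a * k) * k⁻¹ by group, e]; group) ha.2
      · left; rw [← e]; group
      · right; rw [← e]; group
    · intro ha
      have hk : k⁻¹ * a * k = g ∨ k⁻¹ * a * k = g⁻¹ := by
        rcases ha with rfl | rfl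
        · left; group
        · right; group
      have hmem : k⁻¹ * a * k ∈ E₁ ∧ k⁻¹ * a * k ∈ E₂ ∧ k⁻¹ * a * k ≠ 1 := by
        rcases hk with e | e <;> rw [e]
        · exact ⟨h.point.mem, h.block.mem, h.ne_one⟩
        · exact ⟨E₁.inv_mem h.point.mem, E₂.inv_mem h.block.mem, inv_ne_one.2 h.ne_one⟩
      have ha1 : a ≠ 1 := fun e => hmem.2.2 (by rw [e]; group)
      have haE : a ∈ E₂ := h2.2 hmem.2.1
      refine ⟨⟨haE, ha1⟩, h.point.sub_unique ha1 (hf a ⟨haE, ha1⟩) ?_⟩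
      rw [← hk1, mem_sub_smul, mem_sub_one]
      exact hmem.1
  rw [hset, Finset.card_pair]
  intro e
  exact hgg (mul_left_cancel (mul_right_cancel e)).symm

theorem card_pts (q : G ⧸ Ng E₂) : (pts E₁ E₂ q).ncard = 4 := by
  induction q using QuotientGroup.induction_on with
  | _ y =>
    rw [show (y : G ⧸ Ng E₂) = y • ((1 : G) : G ⧸ Ng E₂) by
      rw [MulAction.Quotient.smul_coe, smul_eq_mul, mul_one], pts_smul,
      Set.ncard_smul_set, h.card_pts_one]

theorem pts_eq_of_two_base {p' : G ⧸ Ng E₁} {q' : G ⧸ Ng E₂} (hp' : p' ≠ ((1 : G) : G ⧸ Ng E₁))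
    (h1 : Inc E₁ E₂ p' ((1 : G) : G ⧸ Ng E₂))
    (h2 : Inc E₁ E₂ ((1 : G) : G ⧸ Ng E₁) q') (h3 : Inc E₁ E₂ p' q') :
    pts E₁ E₂ ((1 : G) : G ⧸ Ng E₂) = pts E₁ E₂ q' := by
  refine Set.eq_of_subset_of_ncard_le (fun p'' hp'' => ?_) (by rw [h.card_pts, h.card_pts]) (Set.toFinite _)
  by_cases hp1 : p'' = ((1 : G) : G ⧸ Ng E₁)
  · exact hp1 ▸ h2
  obtain ⟨k, hk1, hk2⟩ := h.exists_flag h2
  have hkN : k ∈ Ng E₁ := by
    rw [MulAction.Quotient.smul_coe, smul_eq_mul, mul_one, QuotientGroup.eq, mul_one] at hk1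
    exact inv_mem_iff.1 hk1
  have hfix : ∀ e ∈ E₁, e • q' = q' := by
    intro e he
    have hm : k⁻¹ * e * k ∈ E₁ := by
      have := (Subgroup.mem_normalizer_iff.1 (inv_mem hkN) e).1 he
      rwa [inv_inv] at this
    rw [← hk2, MulAction.Quotient.smul_coe, MulAction.Quotient.smul_coe, smul_eq_mul, smul_eq_mul,
      mul_one]
    refine QuotientGroup.eq.2 ?_
    rw [show (e * k)⁻¹ * k = (k⁻¹ * e * k)⁻¹ by group]
    exact inv_mem (h.block.sylow_le (h.point.le hm))
  obtain ⟨w, hw1, hwp, hwq⟩ := h1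
  obtain ⟨v, hv1, hvp, hvq⟩ := hp''
  rw [mem_sub_one] at hwq hvq
  have hout : ∀ (p : G ⧸ Ng E₁) (x : G), p ≠ ((1 : G) : G ⧸ Ng E₁) → x ≠ 1 → x ∈ sub E₁ p →
      x ∉ Subgroup.zpowers g := fun p x hp hx hxp hz =>
    hp (h.point.sub_unique hx hxp (mem_sub_one.2 (Subgroup.zpowers_le.2 h.point.mem hz)))
  have hwg := hout p' w hp' hw1 hwp
  have hvg := hout p'' v hp1 hv1 hvp
  haveI : Fact (Nat.Prime 3) := ⟨Nat.prime_three⟩
  have hw9 : w ^ 9 = 1 :=
    h.block.card ▸ congrArg Subtype.val (pow_card_eq_one' (x := (⟨w, hwq⟩ : E₂)))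
  have hw3 : orderOf w = 3 := by
    have hd : orderOf w ∣ 9 := orderOf_dvd_of_pow_eq_one hw9
    obtain ⟨i, hi, e⟩ := (Nat.dvd_prime_pow Nat.prime_three (m := 2)).1 (by norm_num; exact hd)
    interval_cases i
    · exact absurd (orderOf_eq_one_iff.1 (by rw [e]; norm_num)) hw1
    · rw [e]; norm_num
    · exfalso
      have hle : Subgroup.zpowers w ≤ E₂ := Subgroup.zpowers_le.2 hwq
      have heq := Subgroup.eq_of_le_of_card_ge hle (by rw [h.block.card, Nat.card_zpowers, e]; norm_num)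
      -- a cyclic group of order nine has only one subgroup of order three
      obtain ⟨n, hn⟩ := (IsOfFinOrder.mem_powers_iff_mem_zpowers
        (orderOf_pos_iff.1 (by rw [e]; norm_num : 0 < orderOf w))).2 (heq ▸ h.block.mem : g ∈ Subgroup.zpowers w)
      have hg3 : g ^ 3 = 1 := h.order ▸ pow_orderOf_eq_one g
      rw [show g = w ^ n from hn.symm, ← pow_mul] at hg3
      have h9 := orderOf_dvd_of_pow_eq_one hg3
      rw [e] at h9
      norm_num at h9
      obtain ⟨m, rfl⟩ : 3 ∣ n := by omega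
      refine hp' (h.point.sub_unique h.ne_one ?_ (mem_sub_one.2 h.point.mem))
      rw [show g = w ^ (3 * m) from hn.symm]
      exact pow_mem_sub hwp _
  have hwP := h.block.le hwq
  have hgw : Commute g w := (mem_Cg.1 (h.cent hwP)).symm
  obtain ⟨i, j, -, hj, hv⟩ := decomp_nine h.block.card h.block.mem hwq h.order hw3 hwg hvq
  have hj0 : j ≠ 0 := by
    rintro rfl
    exact hvg (by rw [hv, pow_zero, mul_one]; exact Subgroup.pow_mem _ (Subgroup.mem_zpowers g) i)
  have hvj : v ^ j = w * g ^ (i * j) := by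
    rw [hv, (hgw.pow_pow i j).mul_pow, ← pow_mul, ← pow_mul, pow_mod_three hw3 (j * j),
      show j * j % 3 = 1 by rcases (show j = 1 ∨ j = 2 by omega) with rfl | rfl <;> rfl, pow_one]
    exact (hgw.pow_left _).eq
  obtain ⟨e, he, hee⟩ := exists_conj_pow (P := E₁) h.order
    (fun a ha => h.center a (h.point.le ha) w hwP) hgw.symm
    (fun a ha => mem_Cg.1 (h.cent (h.point.le ha))) (by
      by_contra hno
      push Not at hno
      have hsub : E₁ ≤ Subgroup.zpowers g := fun a ha =>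
        (h.free a ha w hwq (hno a ha)).resolve_right hwg
      have := Subgroup.card_dvd_of_le hsub
      rw [h.point.card, Nat.card_zpowers, h.order] at this
      norm_num at this) (i * j)
  have hp : e • p' = p'' := by
    refine h.point.sub_unique (a := w * g ^ (i * j)) ?_ ?_ (hvj ▸ pow_mem_sub hvp j)
    · rw [← hee]
      exact fun h' => hw1 (conj_eq_one_iff.1 h')
    · rw [← hee, mem_sub_smul, show e⁻¹ * (e * w * e⁻¹) * e = w by group]
      exact hwp
  have := inc_smul (k := e) h3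
  rwa [hp, hfix e he] at this

/-- Two lines have at most one point in common. -/
theorem block_eq_of_two {p p' : G ⧸ Ng E₁} {q q' : G ⧸ Ng E₂} (hp : p' ≠ p)
    (h1 : Inc E₁ E₂ p q) (h1' : Inc E₁ E₂ p' q) (h2 : Inc E₁ E₂ p q') (h2' : Inc E₁ E₂ p' q') :
    q = q' := by
  obtain ⟨k, rfl, rfl⟩ := h.exists_flag h1
  by_contra hne
  have a1 := inc_smul (k := k⁻¹) h1'
  have a2 := inc_smul (k := k⁻¹) h2
  have a3 := inc_smul (k := k⁻¹) h2'
  rw [inv_smul_smul] at a1 a2
  have heq := h.pts_eq_of_two_base (fun e => hp (by rw [← e, smul_inv_smul])) a1 a2 a3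
  obtain ⟨l, -, hl⟩ := h.exists_flag a2
  set S₀ := pts E₁ E₂ ((1 : G) : G ⧸ Ng E₂) with hS0
  have hl' : l ∈ MulAction.stabilizer G S₀ := by
    rw [MulAction.mem_stabilizer_iff, hS0, ← pts_smul, hl, ← heq]
  have hN : Ng E₂ ≤ MulAction.stabilizer G S₀ := fun n hn => by
    rw [MulAction.mem_stabilizer_iff, hS0, ← pts_smul, h.smul_block_one hn]
  have hlN : l ∉ Ng E₂ := fun hn => hne (by
    rw [h.smul_block_one hn] at hl
    rw [hl, smul_inv_smul])
  have htop : MulAction.stabilizer G S₀ = ⊤ := by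
    refine Subgroup.eq_top_of_card_eq _ ?_
    obtain ⟨d, hd⟩ := Subgroup.card_dvd_of_le hN
    have hG := (MulAction.stabilizer G S₀).card_subgroup_dvd_card
    rw [hd, h.block.card_normalizer, h.card_G] at hG
    have hd13 : d ∣ 13 := Nat.dvd_of_mul_dvd_mul_left (by norm_num : 0 < 432) (by norm_num; exact hG)
    rcases (Nat.dvd_prime (by norm_num : Nat.Prime 13)).1 hd13 with rfl | rfl
    · exact absurd ((Subgroup.eq_of_le_of_card_ge hN (by rw [hd, mul_one])) ▸ hl') hlN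
    · rw [hd, h.block.card_normalizer, h.card_G]
  have hall : ∀ p, p ∈ S₀ := by
    intro p
    induction p using QuotientGroup.induction_on with
    | _ x =>
      have hx : x • S₀ = S₀ := MulAction.mem_stabilizer_iff.1 (htop ▸ Subgroup.mem_top x)
      rw [← hx, Set.mem_smul_set_iff_inv_smul_mem, MulAction.Quotient.smul_coe, smul_eq_mul, inv_mul_cancel]
      exact ⟨g, h.ne_one, mem_sub_one.2 h.point.mem, mem_sub_one.2 h.block.mem⟩
  have h13 := h.point.card_cosets h.card_G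
  rw [← Set.ncard_univ, ← Set.eq_univ_of_forall hall, hS0, h.card_pts_one] at h13
  norm_num at h13

/-- The group is the automorphism group of the standard plane of order three. -/
theorem nonempty_mulEquiv [IsSimpleGroup G] :
    Nonempty (G ≃* Cfsg.setSystemAut (Set.range Plane.line)) := by
  classical
  haveI : Fintype (G ⧸ Ng E₁) := Fintype.ofFinite _
  haveI : Fintype (G ⧸ Ng E₂) := Fintype.ofFinite _
  have hα : Fintype.card (G ⧸ Ng E₁) = 13 := by
    rw [← Nat.card_eq_fintype_card]; exact h.point.card_cosets h.card_G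
  have hβ : Fintype.card (G ⧸ Ng E₂) = 13 := by
    rw [← Nat.card_eq_fintype_card]; exact h.block.card_cosets h.card_G
  let b : G ⧸ Ng E₂ → Finset (G ⧸ Ng E₁) := fun q => (pts E₁ E₂ q).toFinset
  have hb4 : ∀ q, (b q).card = 4 := fun q => by
    rw [← Set.ncard_eq_toFinset_card']; exact h.card_pts q
  have hdisj : ((Finset.univ : Finset (G ⧸ Ng E₂)) : Set (G ⧸ Ng E₂)).PairwiseDisjoint
      fun q => (b q).powersetCard 2 := by
    intro q _ q' _ hne
    rw [Function.onFun, Finset.disjoint_left]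
    intro s hs hs'
    rw [Finset.mem_powersetCard] at hs hs'
    obtain ⟨x, y, hxy, rfl⟩ := Finset.card_eq_two.1 hs.2
    have hx : x ∈ b q := hs.1 (by simp)
    have hy : y ∈ b q := hs.1 (by simp)
    have hx' : x ∈ b q' := hs'.1 (by simp)
    have hy' : y ∈ b q' := hs'.1 (by simp)
    have hinc : ∀ z r, z ∈ b r → Inc E₁ E₂ z r := fun z r hz => by
      have hz' : z ∈ pts E₁ E₂ r := by simpa [b] using hz
      exact hz'
    exact hne (h.block_eq_of_two hxy.symm (hinc _ _ hx) (hinc _ _ hy) (hinc _ _ hx') (hinc _ _ hy'))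
  have hcover : (Finset.univ.biUnion fun q => (b q).powersetCard 2) = Finset.univ.powersetCard 2 := by
    refine Finset.eq_of_subset_of_card_le (fun s hs => ?_) ?_
    · obtain ⟨q, -, hq⟩ := Finset.mem_biUnion.1 hs
      exact Finset.mem_powersetCard.2 ⟨Finset.subset_univ _, (Finset.mem_powersetCard.1 hq).2⟩
    · rw [Finset.card_biUnion hdisj, Finset.card_powersetCard, Finset.card_univ, hα]
      simp only [Finset.card_powersetCard, hb4, Finset.sum_const, Finset.card_univ, hβ]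
      decide
  have hL : Cfsg.IsSteinerSystem 2 4 (Set.range b) := by
    refine ⟨by rintro _ ⟨q, rfl⟩; exact hb4 q, fun s hs => ?_⟩
    have hmem : s ∈ Finset.univ.biUnion fun q => (b q).powersetCard 2 := by
      rw [hcover]; exact Finset.mem_powersetCard.2 ⟨Finset.subset_univ _, hs⟩
    obtain ⟨q, -, hq⟩ := Finset.mem_biUnion.1 hmem
    refine ⟨b q, ⟨⟨q, rfl⟩, (Finset.mem_powersetCard.1 hq).1⟩, ?_⟩
    rintro _ ⟨⟨q', rfl⟩, hq'⟩
    by_contra hne
    exact Finset.disjoint_left.1 (hdisj (Finset.mem_univ q') (Finset.mem_univ q) fun e => hne (by rw [e]))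
      (Finset.mem_powersetCard.2 ⟨hq', hs⟩) hq
  refine Plane.nonempty_mulEquiv h.card_G hα hL (MulAction.toPermHom G (G ⧸ Ng E₁)) ?_ fun k => ?_
  · rw [← MonoidHom.ker_eq_bot_iff]
    refine (IsSimpleGroup.eq_bot_or_eq_top_of_normal _ inferInstance).resolve_right fun ht => ?_
    have hN : Ng E₁ = ⊤ := by
      refine eq_top_iff.2 fun x _ => ?_
      have hk : x ∈ (MulAction.toPermHom G (G ⧸ Ng E₁)).ker := ht ▸ Subgroup.mem_top x
      have hx := Equiv.congr_fun (MonoidHom.mem_ker.1 hk) ((1 : G) : G ⧸ Ng E₁)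
      have hx' : x • ((1 : G) : G ⧸ Ng E₁) = ((1 : G) : G ⧸ Ng E₁) := hx
      rw [MulAction.Quotient.smul_coe, smul_eq_mul, mul_one, QuotientGroup.eq, mul_one] at hx'
      exact inv_mem_iff.1 hx'
    have := h.point.card_normalizer
    rw [hN, Subgroup.card_top, h.card_G] at this
    omega
  · refine Mathieu.mem_setSystemAut_of_image ?_
    rintro _ ⟨q, rfl⟩
    refine ⟨k • q, Finset.coe_injective ?_⟩
    simp only [b, Set.coe_toFinset, Finset.coe_image, pts_smul]
    rfl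

end Flag

/-- A simple group of order 5616 with such a centraliser is the automorphism group of the plane. -/
theorem Ctx.nonempty_mulEquiv [Finite G] [IsSimpleGroup G] (c : Ctx G) :
    Nonempty (G ≃* Cfsg.setSystemAut (Set.range Plane.line)) := by
  obtain ⟨g, P, E₁, E₂, hgA, hP, hPle, hgP, h1, h2, hinter, hfree⟩ := c.exists_pair
  exact Flag.nonempty_mulEquiv (g := g) (P := P) (E₁ := E₁) (E₂ := E₂)
    ⟨c.hcard, hgA.1, h1, h2, hinter, hfree, c.center_A hgA hP hPle hgP, hPle⟩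

end CfsgLib.GLTwoThreeRecog
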