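import Cfsg.Agent.GLTwoThreeRecog.Basic
import Cfsg.Agent.Small.CosetRep

/-!
# Centralisers of elements of order three in a simple group of order 5616
-/

set_option autoImplicit false
set_option linter.style.haveILetI false

namespace CfsgLib.GLTwoThreeRecog

open CfsgLib.MElevenUnique (Cg Ng mem_Cg mem_Cg_comm card_Cg_of_isConj mem_Cg_conj)

universe u

variable {G : Type u} [Group G]

/-- A noncommutative group of order twenty-seven has centre of order three, which contains all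
commutators. -/
theorem center_three [Finite G] {P : Subgroup G} (hP : Nat.card P = 27)
    (hnc : ¬ ∀ a ∈ P, ∀ b ∈ P, a * b = b * a) :
    ∃ z ∈ P, orderOf z = 3 ∧ (∀ a ∈ P, a * z = z * a) ∧
      (∀ y ∈ P, (∀ a ∈ P, a * y = y * a) → y ∈ Subgroup.zpowers z) ∧
      ∀ a ∈ P, ∀ b ∈ P, a * b * a⁻¹ * b⁻¹ ∈ Subgroup.zpowers z := by
  haveI : Fact (Nat.Prime 3) := ⟨Nat.prime_three⟩
  have hp : IsPGroup 3 P := IsPGroup.of_card (n := 3) (by rw [hP]; norm_num)
  haveI : Nontrivial P := Finite.one_lt_card_iff_nontrivial.1 (by rw [hP]; norm_num)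
  haveI := hp.center_nontrivial
  have hne : Subgroup.center P ≠ ⊤ := by
    intro h
    refine hnc fun a ha b hb => ?_
    exact (congrArg Subtype.val (Subgroup.mem_center_iff.1
      (h ▸ Subgroup.mem_top (⟨a, ha⟩ : P)) ⟨b, hb⟩)).symm
  have hd : Nat.card (Subgroup.center P) ∈ ({3, 9} : Finset ℕ) := by
    have h : Nat.card (Subgroup.center P) ∈ Nat.divisors 27 :=
      Nat.mem_divisors.2 ⟨hP ▸ Subgroup.card_subgroup_dvd_card _, by norm_num⟩
    rw [show Nat.divisors 27 = {1, 3, 9, 27} by decide] at h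
    simp only [Finset.mem_insert, Finset.mem_singleton] at h ⊢
    rcases h with h | h | h | h
    · exact absurd h (Finite.one_lt_card_iff_nontrivial.2 inferInstance).ne'
    · exact Or.inl h
    · exact Or.inr h
    · exact absurd (Subgroup.eq_top_of_card_eq _ (h.trans hP.symm)) hne
  have hidx := (Subgroup.center P).card_mul_index
  rw [hP] at hidx
  simp only [Finset.mem_insert, Finset.mem_singleton] at hd
  rcases hd with hd | hd
  swap
  · exfalso
    rw [hd] at hidx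
    have h3 : Nat.card (P ⧸ Subgroup.center P) = 3 := by
      rw [← Subgroup.index_eq_card]; omega
    haveI := isCyclic_of_prime_card h3
    refine hnc fun a ha b hb => ?_
    exact congrArg Subtype.val
      (commutative_of_cyclic_center_quotient (QuotientGroup.mk' (Subgroup.center P)) (by simp)
        ⟨a, ha⟩ ⟨b, hb⟩)
  obtain ⟨z, hz⟩ := exists_prime_orderOf_dvd_card' (G := Subgroup.center P) 3 (by rw [hd])
  have hz3 : orderOf ((z : P) : G) = 3 := by rw [Subgroup.orderOf_coe, Subgroup.orderOf_coe, hz]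
  have hall : ∀ y : Subgroup.center P, y ∈ Subgroup.zpowers z := fun y => by
    have : Subgroup.zpowers z = ⊤ := Subgroup.eq_top_of_card_eq _ (by rw [Nat.card_zpowers, hz, hd])
    rw [this]; exact Subgroup.mem_top y
  have hmap : ∀ y : Subgroup.center P, ((y : P) : G) ∈ Subgroup.zpowers ((z : P) : G) := fun y => by
    obtain ⟨k, rfl⟩ := Subgroup.mem_zpowers_iff.1 (hall y)
    exact ⟨k, by simp⟩
  refine ⟨((z : P) : G), (z : P).2, hz3,
    fun a ha => congrArg Subtype.val (Subgroup.mem_center_iff.1 z.2 ⟨a, ha⟩),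
    fun y hy hc => hmap ⟨⟨y, hy⟩, Subgroup.mem_center_iff.2 fun a => Subtype.ext (hc a a.2)⟩,
    fun a ha b hb => ?_⟩
  have hq : Nat.card (P ⧸ Subgroup.center P) = 3 ^ 2 := by
    rw [← Subgroup.index_eq_card]; rw [hd] at hidx; omega
  have hc : (⟨a, ha⟩ * ⟨b, hb⟩ * ⟨a, ha⟩⁻¹ * ⟨b, hb⟩⁻¹ : P) ∈ Subgroup.center P := by
    rw [← QuotientGroup.eq_one_iff]
    simp only [QuotientGroup.mk_mul, QuotientGroup.mk_inv]
    rw [IsPGroup.commutative_of_card_eq_prime_sq hq ((⟨a, ha⟩ : P) : P ⧸ Subgroup.center P) ((⟨b, hb⟩ : P) : P ⧸ Subgroup.center P)]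
    group
  exact hmap ⟨_, hc⟩

/-- A subgroup of index two contains the elements of odd order. -/
theorem mem_of_index_two {K : Subgroup G} (hK : K.index = 2) {x : G} {n : ℕ} (hn : Odd n)
    (hx : x ^ n = 1) : x ∈ K := by
  obtain ⟨k, rfl⟩ := hn
  have h := K.pow_mem (Subgroup.sq_mem_of_index_two hK x) (k + 1)
  rwa [← pow_mul, show 2 * (k + 1) = 2 * k + 1 + 1 by ring, pow_succ, hx, one_mul] at h

namespace Ctx

variable [Finite G] [IsSimpleGroup G] (c : Ctx G)
include c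

theorem not_comm : ¬ IsMulCommutative G := Small.not_comm_of_card c.hcard (by norm_num)

theorem card_sylow_three (P : Sylow 3 G) : Nat.card (P : Subgroup G) = 27 := by
  haveI : Fact (Nat.Prime 3) := ⟨Nat.prime_three⟩
  rw [P.card_eq_multiplicity, c.hcard, show (5616 : ℕ) = 3 ^ 3 * 208 by norm_num,
    Nat.factorization_mul (by norm_num) (by norm_num), Finsupp.add_apply,
    Nat.Prime.factorization_pow Nat.prime_three, Finsupp.single_eq_same,
    Nat.factorization_eq_zero_of_not_dvd (by norm_num)]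
  norm_num

theorem exists_sylow_le {H : Subgroup G} {k : ℕ} (hH : Nat.card H = 3 ^ k) :
    ∃ P : Subgroup G, Nat.card P = 27 ∧ H ≤ P := by
  haveI : Fact (Nat.Prime 3) := ⟨Nat.prime_three⟩
  obtain ⟨P, hP⟩ := (IsPGroup.of_card hH).exists_le_sylow
  exact ⟨P, c.card_sylow_three P, hP⟩

/-- The order of the centraliser of an element of order three in `C`. -/
theorem card_cases {g : G} (hg : g ∈ Cg c.t) (hg3 : orderOf g = 3) :
    ∃ a : ℕ, 1 ≤ a ∧ a ≤ 3 ∧ Nat.card (Cg g) = 2 * 3 ^ a := by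
  haveI : Fact (Nat.Prime 13) := ⟨by norm_num⟩
  set n := Nat.card (Cg g) with hn
  have hd : n ∣ 5616 := c.hcard ▸ Subgroup.card_subgroup_dvd_card _
  have h2 : 2 ∣ n := by
    rw [← c.ht, ← Subgroup.orderOf_mk c.t (mem_Cg_comm.1 hg)]; exact orderOf_dvd_natCard _
  have h3 : 3 ∣ n := by
    have hgg : g ∈ Cg g := mem_Cg.2 rfl
    rw [← hg3, ← Subgroup.orderOf_mk g hgg]; exact orderOf_dvd_natCard _
  have h13 := c.not_thirteen (g := g) hg3
  have h4 := c.not_four_dvd hg hg3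
  have hmem : n ∈ (Nat.divisors 5616).filter (fun m => 2 ∣ m ∧ 3 ∣ m ∧ ¬ 4 ∣ m ∧ ¬ 13 ∣ m) :=
    Finset.mem_filter.2 ⟨Nat.mem_divisors.2 ⟨hd, by norm_num⟩, h2, h3, h4, h13⟩
  rw [show (Nat.divisors 5616).filter (fun m => 2 ∣ m ∧ 3 ∣ m ∧ ¬ 4 ∣ m ∧ ¬ 13 ∣ m) = {6, 18, 54} by
    decide +kernel] at hmem
  simp only [Finset.mem_insert, Finset.mem_singleton] at hmem
  rcases hmem with h | h | h
  · exact ⟨1, le_rfl, by norm_num, h⟩
  · exact ⟨2, by norm_num, by norm_num, h⟩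
  · exact ⟨3, by norm_num, le_rfl, h⟩

/-- The elements of `3`-power order of `C(x)` form a subgroup of index two. -/
theorem exists_three_part {x : G} {a : ℕ} (hx : Nat.card (Cg x) = 2 * 3 ^ a) :
    ∃ Q : Subgroup G, Q ≤ Cg x ∧ Nat.card Q = 3 ^ a ∧
      (∀ y ∈ Cg x, y ^ 3 ^ a = 1 → y ∈ Q) ∧
      ∀ n : G, (n * x * n⁻¹ = x ∨ n * x * n⁻¹ = x⁻¹) → ∀ y ∈ Q, n * y * n⁻¹ ∈ Q := by
  haveI : Fact (Nat.Prime 3) := ⟨Nat.prime_three⟩
  obtain ⟨Q₀, hQ₀⟩ := Sylow.exists_subgroup_card_pow_prime (G := Cg x) 3 (n := a)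
    (by rw [hx]; exact Dvd.intro_left _ rfl)
  have hidx : Q₀.index = 2 := by
    have h := Q₀.card_mul_index
    rw [hQ₀, hx, mul_comm 2] at h
    exact Nat.eq_of_mul_eq_mul_left (pow_pos (by norm_num) a) h
  set Q := Q₀.map (Cg x).subtype
  have hQc : Nat.card Q = 3 ^ a :=
    (Nat.card_congr (Q₀.equivMapOfInjective _ (Cg x).subtype_injective).toEquiv).symm.trans hQ₀
  have hmem : ∀ y ∈ Cg x, y ^ 3 ^ a = 1 → y ∈ Q := fun y hy hy1 =>
    ⟨⟨y, hy⟩, mem_of_index_two hidx (Odd.pow (by decide)) (Subtype.ext hy1), rfl⟩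
  refine ⟨Q, Subgroup.map_subtype_le _, hQc, hmem, fun n hn y hy => hmem _ ?_ ?_⟩
  · have hyx := mem_Cg.1 (Subgroup.map_subtype_le _ hy)
    have : n * y * n⁻¹ ∈ Cg (n * x * n⁻¹) := mem_Cg_conj.2 (mem_Cg.2 hyx)
    rcases hn with h | h <;> rw [h] at this
    · exact this
    · exact mem_Cg.2 (Commute.inv_right_iff.1 (show Commute (n * y * n⁻¹) x⁻¹ from mem_Cg.1 this)).eq
  · rw [conj_pow, show y ^ 3 ^ a = 1 by
      rw [← hQc]; exact congrArg Subtype.val (pow_card_eq_one' (x := (⟨y, hy⟩ : Q))), mul_one,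
      mul_inv_cancel]

theorem nine_dvd {g : G} (hg : g ∈ Cg c.t) (hg3 : orderOf g = 3) : 9 ∣ Nat.card (Cg g) := by
  obtain ⟨P, hP, hle⟩ := c.exists_sylow_le (H := Subgroup.zpowers g) (k := 1)
    (by rw [Nat.card_zpowers, hg3, pow_one])
  have hgP : g ∈ P := hle (Subgroup.mem_zpowers g)
  by_cases hc : ∀ a ∈ P, a * g = g * a
  · refine (show 9 ∣ Nat.card P by rw [hP]; norm_num).trans (Subgroup.card_dvd_of_le fun a ha => ?_)
    exact mem_Cg.2 (hc a ha)
  obtain ⟨z, hz, hz3, hzc, -, -⟩ := center_three hP (fun h => hc fun a ha => h a ha g hgP)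
  set K := Cg g ⊓ P
  have hgK : g ∈ K := ⟨mem_Cg.2 rfl, hgP⟩
  have hzK : z ∈ K := ⟨mem_Cg.2 (hzc g hgP).symm, hz⟩
  have hd : Nat.card K ∈ Nat.divisors 27 :=
    Nat.mem_divisors.2 ⟨hP ▸ Subgroup.card_dvd_of_le inf_le_right, by norm_num⟩
  rw [show Nat.divisors 27 = {1, 3, 9, 27} by decide] at hd
  simp only [Finset.mem_insert, Finset.mem_singleton] at hd
  have h9 : 9 ∣ Nat.card K := by
    have hle3 : Subgroup.zpowers g ≤ K := Subgroup.zpowers_le.2 hgK
    rcases hd with h | h | h | h <;> rw [h]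
    · have := Subgroup.card_dvd_of_le hle3
      rw [h, Nat.card_zpowers, hg3] at this
      norm_num at this
    · exfalso
      have heq := Subgroup.eq_of_le_of_card_ge hle3 (by rw [h, Nat.card_zpowers, hg3])
      rw [← heq] at hzK
      rcases mem_zpowers_three hg3 hzK with e | e | e
      · rw [e, orderOf_one] at hz3; omega
      · exact hc fun a ha => e ▸ hzc a ha
      · refine hc fun a ha => ?_
        have := hzc a ha
        rw [e] at this
        exact (Commute.inv_right_iff.1 this).eq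
    · norm_num
  exact h9.trans (Subgroup.card_dvd_of_le inf_le_left)

/-- The centraliser of an element of order three in `C` has order `54`. -/
theorem card_Cg_mem {g : G} (hg : g ∈ Cg c.t) (hg3 : orderOf g = 3) : Nat.card (Cg g) = 54 := by
  obtain ⟨a, ha1, ha3, hn⟩ := c.card_cases hg hg3
  have h9 := c.nine_dvd hg hg3
  rw [hn] at h9
  rcases (show a = 1 ∨ a = 2 ∨ a = 3 by omega) with rfl | rfl | rfl
  · norm_num at h9
  swap
  · simpa using hn
  exfalso
  obtain ⟨Q, hQle, hQc, hQmem, hQn⟩ := c.exists_three_part (x := g) (a := 2) hn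
  norm_num at hQc
  have hgQ : g ∈ Q := hQmem g (mem_Cg.2 rfl) (orderOf_dvd_iff_pow_eq_one.1 (by rw [hg3]; norm_num))
  obtain ⟨P, hP, hQP⟩ := c.exists_sylow_le (H := Q) (k := 2) (by rw [hQc]; norm_num)
  have hnc : ¬ ∀ p ∈ P, p * g = g * p := fun h => by
    have := Subgroup.card_dvd_of_le (H := P) (K := Cg g) fun p hp => mem_Cg.2 (h p hp)
    rw [hP, hn] at this; norm_num at this
  obtain ⟨z, hz, hz3, hzc, -, hcomm⟩ := center_three hP (fun h => hnc fun p hp => h p hp g (hQP hgQ))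
  have hzQ : z ∈ Q := hQmem z (mem_Cg.2 (hzc g (hQP hgQ)).symm)
    (orderOf_dvd_iff_pow_eq_one.1 (by rw [hz3]; norm_num))
  have hzA : ¬ IsA z := fun h => by
    have hc := card_Cg_of_isConj (c.isConj_A (c.isA_of_mem hg hg3) h)
    have := Subgroup.card_dvd_of_le (H := P) (K := Cg z) fun p hp => mem_Cg.2 (hzc p hp)
    rw [hP, hc, hn] at this; norm_num at this
  have hgz : z ∉ Subgroup.zpowers g := by
    intro h
    rcases mem_zpowers_three hg3 h with e | e | e
    · rw [e, orderOf_one] at hz3; omega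
    · exact hzA (e ▸ c.isA_of_mem hg hg3)
    · refine hzA ?_
      rw [e]
      exact ⟨by rw [orderOf_inv, hg3], c.t, c.ht, (show Commute c.t g from (mem_Cg.1 hg).symm).inv_right.eq⟩
  -- elements of `Q` outside `⟨z⟩` are centralised by involutions
  have hA : ∀ x ∈ Q, x ∉ Subgroup.zpowers z → IsA x := by
    intro x hx hxz
    obtain ⟨i, j, hi, hj, rfl⟩ := decomp_nine (by simpa using hQc) hgQ hzQ hg3 hz3 hgz hx
    have hi0 : i ≠ 0 := by
      rintro rfl
      exact hxz (by rw [pow_zero, one_mul]; exact Subgroup.pow_mem _ (Subgroup.mem_zpowers z) j)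
    push Not at hnc
    obtain ⟨p, hp, hpg⟩ := hnc
    have hw := hcomm p hp g (hQP hgQ)
    have hw1 : p * g * p⁻¹ * g⁻¹ ≠ 1 := fun h => hpg (mul_inv_eq_iff_eq_mul.1 (mul_inv_eq_one.1 h))
    obtain ⟨m, hm⟩ := (IsOfFinOrder.mem_powers_iff_mem_zpowers
      (orderOf_pos_iff.1 (by omega : 0 < orderOf z))).2 hw
    have hm' : p * g * p⁻¹ = g * z ^ m := by
      have h1 : p * g * p⁻¹ = z ^ m * g := by
        rw [show z ^ m = p * g * p⁻¹ * g⁻¹ from hm]; group
      rw [h1]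
      exact ((show Commute g z from hzc g (hQP hgQ)).pow_right m).symm.eq
    have hm3 : m % 3 ≠ 0 := by
      intro h
      refine hw1 ?_
      rw [show p * g * p⁻¹ * g⁻¹ = z ^ m from hm.symm, pow_mod_three hz3, h, pow_zero]
    have hiter : ∀ k : ℕ, p ^ k * g * (p ^ k)⁻¹ = g * z ^ (m * k) := by
      intro k
      induction k with
      | zero => simp
      | succ k ih =>
        calc p ^ (k + 1) * g * (p ^ (k + 1))⁻¹ = p * (p ^ k * g * (p ^ k)⁻¹) * p⁻¹ := by
              rw [pow_succ']; group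
          _ = p * g * p⁻¹ * (p * z ^ (m * k) * p⁻¹) := by rw [ih]; group
          _ = g * z ^ m * z ^ (m * k) := by
              rw [hm', ((show Commute p z from hzc p hp).pow_right (m * k)).eq, mul_inv_cancel_right]
          _ = g * z ^ (m * (k + 1)) := by rw [mul_assoc, ← pow_add]; ring_nf
    obtain ⟨k, hk⟩ : ∃ k, (m * k * i) % 3 = j := by
      rcases (show m % 3 = 1 ∨ m % 3 = 2 by omega) with h | h <;>
        rcases (show i = 1 ∨ i = 2 by omega) with h' | h' <;> subst h'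
      · exact ⟨j, by rw [Nat.mul_mod, Nat.mul_mod m, h]; omega⟩
      · exact ⟨2 * j, by rw [Nat.mul_mod, Nat.mul_mod m, h]; omega⟩
      · exact ⟨2 * j, by rw [Nat.mul_mod, Nat.mul_mod m, h]; omega⟩
      · exact ⟨j, by rw [Nat.mul_mod, Nat.mul_mod m, h]; omega⟩
    have hpow : g ^ i * z ^ j = (g * z ^ (m * k)) ^ i := by
      rw [((show Commute g z from hzc g (hQP hgQ)).pow_right (m * k)).mul_pow, ← pow_mul,
        pow_mod_three hz3 (m * k * i), hk]
    refine ⟨?_, p ^ k * c.t * (p ^ k)⁻¹, by rw [Small.orderOf_conj_eq, c.ht], ?_⟩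
    · have hy : orderOf (p ^ k * g * (p ^ k)⁻¹) = 3 := by rw [Small.orderOf_conj_eq, hg3]
      rw [hpow, ← hiter k, Nat.Coprime.orderOf_pow, hy]
      rw [hy]
      rcases (show i = 1 ∨ i = 2 by omega) with h' | h' <;> subst h' <;> decide
    · rw [hpow, ← hiter k]
      have hb : Commute (p ^ k * c.t * (p ^ k)⁻¹) (p ^ k * g * (p ^ k)⁻¹) := by
        show p ^ k * c.t * (p ^ k)⁻¹ * (p ^ k * g * (p ^ k)⁻¹) =
          p ^ k * g * (p ^ k)⁻¹ * (p ^ k * c.t * (p ^ k)⁻¹)
        rw [show p ^ k * c.t * (p ^ k)⁻¹ * (p ^ k * g * (p ^ k)⁻¹) = p ^ k * (c.t * g) * (p ^ k)⁻¹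
          by group, show p ^ k * g * (p ^ k)⁻¹ * (p ^ k * c.t * (p ^ k)⁻¹) =
          p ^ k * (g * c.t) * (p ^ k)⁻¹ by group, (mem_Cg.1 hg).symm]
      exact (hb.pow_right i).eq
  -- involutions fixing or inverting `g` invert `z`
  have hinv : ∀ s : G, orderOf s = 2 → (s * g * s⁻¹ = g ∨ s * g * s⁻¹ = g⁻¹) → s * z * s⁻¹ = z⁻¹ := by
    intro s hs hsg
    have hzs := hQn s hsg z hzQ
    have hnA : ¬ IsA (s * z * s⁻¹) := by
      rintro ⟨h3, u, hu, hux⟩
      refine hzA ⟨hz3, s⁻¹ * u * s, ?_, ?_⟩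
      · have := Small.orderOf_conj_eq s⁻¹ u
        rw [inv_inv] at this
        rw [this, hu]
      · calc s⁻¹ * u * s * z = s⁻¹ * (u * (s * z * s⁻¹)) * s := by group
          _ = z * (s⁻¹ * u * s) := by rw [hux]; group
    have hzin : s * z * s⁻¹ ∈ Subgroup.zpowers z := by
      by_contra h
      exact hnA (hA _ hzs h)
    rcases mem_zpowers_three hz3 hzin with e | e | e
    · exfalso
      rw [conj_eq_one_iff] at e
      rw [e, orderOf_one] at hz3; omega
    · exact absurd ⟨hz3, s, hs, mul_inv_eq_iff_eq_mul.1 e⟩ hzA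
    · exact e
  obtain ⟨r, hr, hrt, -, hrg⟩ := c.exists_inverter hg hg3
  have hgt : c.t * g * c.t⁻¹ = g := by rw [← mem_Cg.1 hg, mul_inv_cancel_right]
  have e1 := hinv r hr (Or.inr hrg)
  have e2 := hinv c.t c.ht (Or.inl hgt)
  have e3 := hinv (r * c.t) hrt (Or.inr (by
    calc r * c.t * g * (r * c.t)⁻¹ = r * (c.t * g * c.t⁻¹) * r⁻¹ := by group
      _ = g⁻¹ := by rw [hgt, hrg]))
  have e4 : r * c.t * z * (r * c.t)⁻¹ = z := by
    calc r * c.t * z * (r * c.t)⁻¹ = r * (c.t * z * c.t⁻¹) * r⁻¹ := by group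
      _ = (r * z * r⁻¹)⁻¹ := by rw [e2]; group
      _ = z := by rw [e1, inv_inv]
  rw [e3] at e4
  have h2 : z ^ 2 = 1 := by rw [sq]; nth_rewrite 1 [← e4]; rw [inv_mul_cancel]
  have := orderOf_dvd_of_pow_eq_one h2
  rw [hz3] at this
  norm_num at this

theorem card_Cg_A {x : G} (hx : IsA x) : Nat.card (Cg x) = 54 := by
  obtain ⟨g, hg, hg3⟩ := c.exists_three
  rw [card_Cg_of_isConj (c.isConj_A (c.isA_of_mem hg hg3) hx), c.card_Cg_mem hg hg3]

end Ctx

end CfsgLib.GLTwoThreeRecog
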