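import Cfsg.Agent.Characters.GL23.Group
import Cfsg.Agent.Small.ThompsonTransfer
import Cfsg.Prelude.Def_Transfer

/-!
# A group with an involution centralizer `GL(2, 3)` and no subgroup of index two is simple
-/

set_option autoImplicit false
set_option linter.style.haveILetI false

namespace CfsgLib.GLTwoThreeRecog

open CfsgLib.Characters.GL23 Matrix

theorem inv3_det_one : ∀ v ∈ elts, IsInv3 v → det3 v = 1 → v = m1 := by decide +kernel

theorem card_commutant_le : ∀ v ∈ elts, IsInv3 v → v ≠ m1 →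
    (elts.filter fun w => mul3 v w = mul3 w v).card ≤ 4 := by decide +kernel

theorem card_det_one : (elts.filter fun w => det3 w = 1).card = 24 := by decide +kernel

theorem det3_mul_one : ∀ v ∈ elts, ∀ w ∈ elts, det3 (mul3 v w) = det3 v * det3 w := by decide +kernel

theorem det3_cases : ∀ v ∈ elts, det3 v = 1 ∨ det3 v = -1 := by decide +kernel

theorem exists_three_invol : ∀ v ∈ elts, ∃ a ∈ elts.filter (fun w => IsInv3 w ∨ w = one3),
    ∃ b ∈ elts.filter (fun w => IsInv3 w ∨ w = one3),
    ∃ c ∈ elts.filter (fun w => IsInv3 w ∨ w = one3), v = mul3 (mul3 a b) c := by decide +kernel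

theorem exists_odd_escape : ∀ v ∈ elts, pow3 v 3 = one3 → v ≠ one3 →
    ∃ c ∈ elts.filter IsInv3, pow3 (mul3 v (mul3 (mul3 c v) c)) 4 = one3 ∧
      mul3 v (mul3 (mul3 c v) c) ≠ one3 := by decide +kernel

universe u

variable {G : Type u} [Group G] [Finite G] {t : G}
  (e : Subgroup.centralizer ({t} : Set G) ≃* GeneralLinearGroup (Fin 2) (ZMod 3))

include e in
/-- `t` is the only central involution of a subgroup of order sixteen of its centraliser. -/
theorem eq_t_of_central (ht : orderOf t = 2) {S : Subgroup G}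
    (hS : S ≤ Subgroup.centralizer ({t} : Set G)) (h16 : Nat.card S = 16) {z : G} (hz : z ∈ S)
    (hz2 : orderOf z = 2) (hc : ∀ s ∈ S, s * z = z * s) : z = t := by
  by_contra hne
  have hv : coord e ⟨z, hS hz⟩ ≠ m1 := by
    rw [← coord_tC e ht, (coord_injective e).ne_iff]
    exact fun h => hne (congrArg Subtype.val h)
  have h4 := card_commutant_le _ (coord_mem e _) ((isInv3_coord_iff e _).2 hz2) hv
  have : Nat.card S ≤ 4 := by
    refine le_trans (le_of_le_of_eq (Nat.card_le_card_of_injective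
      (fun s : S => (⟨coord e ⟨s.1, hS s.2⟩, Finset.mem_filter.2 ⟨coord_mem e _, ?_⟩⟩ :
        {w // w ∈ elts.filter fun w => mul3 (coord e ⟨z, hS hz⟩) w = mul3 w (coord e ⟨z, hS hz⟩)}))
      fun a b hab => ?_) (Nat.card_eq_finsetCard _)) h4
    · rw [← coord_mul, ← coord_mul]
      exact congrArg _ (Subtype.ext (hc _ s.2).symm)
    · exact Subtype.ext (congrArg (fun y : Subgroup.centralizer ({t} : Set G) => (y : G))
        (coord_injective e (congrArg Subtype.val hab)))
  omega

include e in
/-- There is a Sylow `2`-subgroup of order sixteen inside the centraliser. -/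
theorem exists_sylow (ht : orderOf t = 2) : ∃ S : Sylow 2 G,
    Nat.card (S : Subgroup G) = 16 ∧ (S : Subgroup G) ≤ Subgroup.centralizer ({t} : Set G) ∧
      Subgroup.normalizer ((S : Subgroup G) : Set G) ≤ Subgroup.centralizer ({t} : Set G) := by
  haveI : Fact (Nat.Prime 2) := ⟨Nat.prime_two⟩
  set C := Subgroup.centralizer ({t} : Set G) with hC
  obtain ⟨S₀⟩ : Nonempty (Sylow 2 C) := inferInstance
  have h16 : Nat.card (S₀ : Subgroup C) = 16 := by
    rw [S₀.card_eq_multiplicity, card_centralizer e]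
    have : (48 : ℕ).factorization 2 = 4 := by
      rw [show (48 : ℕ) = 2 ^ 4 * 3 by norm_num, Nat.factorization_mul (by norm_num) (by norm_num),
        Finsupp.add_apply, Nat.Prime.factorization_pow Nat.prime_two, Finsupp.single_eq_same,
        Nat.factorization_eq_zero_of_not_dvd (by norm_num)]
    rw [this]; norm_num
  set S₁ : Subgroup G := (S₀ : Subgroup C).map C.subtype with hS₁
  have hle : S₁ ≤ C := Subgroup.map_subtype_le _
  have h161 : Nat.card S₁ = 16 :=
    (Nat.card_congr (((S₀ : Subgroup C).equivMapOfInjective _ C.subtype_injective).toEquiv)).symm.trans h16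
  -- `t` lies in every Sylow subgroup of its centraliser
  have htS : t ∈ S₁ := by
    have hp : IsPGroup 2 (Subgroup.zpowers (tC : C)) := IsPGroup.of_card (n := 1) (by
      rw [Nat.card_zpowers, pow_one]
      exact (Subgroup.orderOf_coe _).symm.trans ht)
    haveI : (Subgroup.zpowers (tC : C)).Normal := ⟨fun n hn g => by
      obtain ⟨k, rfl⟩ := Subgroup.mem_zpowers_iff.1 hn
      have hc : g * tC = tC * g := Subtype.ext (Subgroup.mem_centralizer_singleton_iff.1 g.2)
      rw [show g * tC ^ k * g⁻¹ = (g * tC * g⁻¹) ^ k by rw [conj_zpow], hc, mul_inv_cancel_right]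
      exact Subgroup.zpow_mem _ (Subgroup.mem_zpowers _) k⟩
    exact ⟨tC, hp.le_sylow_of_normal S₀ (Subgroup.mem_zpowers _), rfl⟩
  have hN : Subgroup.normalizer (S₁ : Set G) ≤ C := by
    intro n hn
    refine Subgroup.mem_centralizer_singleton_iff.2 ?_
    have := eq_t_of_central e ht hle h161 ((Subgroup.mem_normalizer_iff.1 hn t).1 htS)
      (by rw [Small.orderOf_conj_eq, ht]) (fun s hs => by
        have hs' : n⁻¹ * s * n ∈ S₁ := by
          refine (Subgroup.mem_normalizer_iff.1 hn _).2 ?_
          rwa [show n * (n⁻¹ * s * n) * n⁻¹ = s by group]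
        have h := Subgroup.mem_centralizer_singleton_iff.1 (hle hs')
        calc s * (n * t * n⁻¹) = n * (n⁻¹ * s * n * t) * n⁻¹ := by group
          _ = n * (t * (n⁻¹ * s * n)) * n⁻¹ := by rw [h]
          _ = n * t * n⁻¹ * s := by group)
    calc n * t = (n * t * n⁻¹) * n := by group
      _ = t * n := by rw [this]
  obtain ⟨S, hS⟩ := (IsPGroup.of_card (n := 4) (p := 2) (G := S₁) (by rw [h161]; norm_num)).exists_le_sylow
  have heq : (S : Subgroup G) = S₁ := by
    by_contra hne
    have hlt : S₁.subgroupOf (S : Subgroup G) < ⊤ := lt_top_iff_ne_top.2 fun h =>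
      hne (le_antisymm (Subgroup.subgroupOf_eq_top.1 h) hS)
    haveI : Group.IsNilpotent (S : Subgroup G) := S.2.isNilpotent
    obtain ⟨n, hn, hnot⟩ := SetLike.exists_of_lt (Group.normalizerCondition_of_isNilpotent _ hlt)
    have hnG : (n : G) ∈ Subgroup.normalizer (S₁ : Set G) := by
      rw [Subgroup.mem_normalizer_iff] at hn ⊢
      intro x
      refine ⟨fun hx => ?_, fun hx => ?_⟩
      · exact (hn ⟨x, hS hx⟩).1 hx
      · have hxS : x ∈ (S : Subgroup G) := by
          have := mul_mem (mul_mem (inv_mem n.2) (hS hx)) n.2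
          rwa [show (n : G)⁻¹ * ((n : G) * x * (n : G)⁻¹) * n = x by group] at this
        exact (hn ⟨x, hxS⟩).2 hx
    refine hnot ?_
    show (n : G) ∈ S₁
    -- a `2`-element of `C` normalising `S₁` lies in it
    have hle2 : S₁ ⊔ Subgroup.zpowers (n : G) ≤ C ⊓ S :=
      sup_le (le_inf hle hS) (Subgroup.zpowers_le.2 ⟨hN hnG, n.2⟩)
    have hd : Nat.card ↥(C ⊓ S : Subgroup G) ∣ 48 :=
      card_centralizer e ▸ Subgroup.card_dvd_of_le inf_le_left
    obtain ⟨k, hk⟩ := (S.2.to_le (inf_le_right : C ⊓ S ≤ S)).exists_card_eq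
    have h16' : Nat.card ↥(C ⊓ S : Subgroup G) ≤ 16 := by
      rw [hk] at hd ⊢
      rcases Nat.lt_or_ge k 5 with h | h
      · calc 2 ^ k ≤ 2 ^ 4 := Nat.pow_le_pow_right (by norm_num) (by omega)
          _ = 16 := by norm_num
      · exact absurd ((pow_dvd_pow 2 h).trans hd) (by norm_num)
    have := Subgroup.eq_of_le_of_card_ge (le_inf hle hS) (by omega)
    exact this.symm ▸ hle2 (Subgroup.mem_sup_right (Subgroup.mem_zpowers _))
  exact ⟨S, heq ▸ h161, heq ▸ hle, heq ▸ hN⟩

variable (hno : ∀ H : Subgroup G, H.index ≠ 2)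

include e hno in
theorem isConj_invol (ht : orderOf t = 2) {u : G} (hu : orderOf u = 2) : IsConj t u := by
  haveI : Fact (Nat.Prime 2) := ⟨Nat.prime_two⟩
  obtain ⟨S, h16, hle, -⟩ := exists_sylow e ht
  let f : (S : Subgroup G) →* ZMod 3 := {
    toFun := fun s => det3 (coord e ⟨s.1, hle s.2⟩)
    map_one' := by
      rw [show (⟨((1 : (S : Subgroup G)) : G), hle (one_mem _)⟩ : Subgroup.centralizer ({t} : Set G)) = 1
        from rfl, coord_one]
      decide
    map_mul' := fun a b => by
      rw [← det3_mul_one _ (coord_mem e _) _ (coord_mem e _), ← coord_mul]; rfl }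
  set M : Subgroup G := f.ker.map (S : Subgroup G).subtype with hM
  have hMS : M ≤ S := Subgroup.map_subtype_le _
  have hMi : M.relIndex S = 2 := by
    rw [hM, Subgroup.relIndex, ← Subgroup.comap_subtype,
      Subgroup.comap_map_eq_self_of_injective (S : Subgroup G).subtype_injective]
    have h24 : Nat.card f.ker ≤ 24 := by
      rw [← card_det_one]
      refine le_of_le_of_eq (Nat.card_le_card_of_injective
        (fun s : f.ker => (⟨coord e ⟨s.1.1, hle s.1.2⟩, Finset.mem_filter.2 ⟨coord_mem e _, s.2⟩⟩ :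
          {w // w ∈ elts.filter fun w => det3 w = 1}))
        fun a b hab => Subtype.ext (Subtype.ext (congrArg
          (fun y : Subgroup.centralizer ({t} : Set G) => (y : G))
          (coord_injective e (congrArg Subtype.val hab))))) (Nat.card_eq_finsetCard _)
    have hmul := f.ker.card_mul_index
    rw [h16] at hmul
    -- the kernel is proper, since sixteen does not divide the order of `SL(2, 3)`
    have hne : f.ker ≠ ⊤ := by
      intro htop
      set A : Subgroup (Subgroup.centralizer ({t} : Set G)) :=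
        { carrier := {x | det3 (coord e x) = 1}
          one_mem' := by show det3 (coord e 1) = 1; rw [coord_one]; decide
          mul_mem' := fun {a b} ha hb => by
            show det3 (coord e (a * b)) = 1
            rw [coord_mul, det3_mul_one _ (coord_mem e _) _ (coord_mem e _), ha, hb, one_mul]
          inv_mem' := fun {a} ha => by
            have h := det3_mul_one _ (coord_mem e a) _ (coord_mem e a⁻¹)
            rw [← coord_mul, mul_inv_cancel, coord_one, ha, one_mul] at h
            exact h.symm.trans (by decide) } with hA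
      have hA24 : Nat.card A = 24 := by
        rw [← card_det_one, ← Nat.card_eq_finsetCard]
        refine Nat.card_congr (Equiv.ofBijective
          (fun a => ⟨coord e a.1, Finset.mem_filter.2 ⟨coord_mem e _, a.2⟩⟩)
          ⟨fun a b h => Subtype.ext (coord_injective e (congrArg Subtype.val h)), fun w => ?_⟩)
        obtain ⟨hw, hw1⟩ := Finset.mem_filter.1 w.2
        obtain ⟨c, hc⟩ := coord_surj e hw
        exact ⟨⟨c, by show det3 (coord e c) = 1; rw [hc, hw1]⟩, Subtype.ext hc⟩
      have hSA : (S : Subgroup G).subgroupOf (Subgroup.centralizer ({t} : Set G)) ≤ A := by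
        intro x hx
        show det3 (coord e x) = 1
        have h : (⟨x.1, hx⟩ : (S : Subgroup G)) ∈ f.ker := htop ▸ Subgroup.mem_top _
        exact h
      have := Subgroup.card_dvd_of_le hSA
      rw [Nat.card_congr (Subgroup.subgroupOfEquivOfLe hle).toEquiv, h16, hA24] at this
      norm_num at this
    have hcase : ∀ x, f x = 1 ∨ f x = -1 := fun x => det3_cases _ (coord_mem e _)
    obtain ⟨a, ha⟩ : ∃ a, a ∉ f.ker := by
      by_contra h
      push Not at h
      exact hne (eq_top_iff.2 fun x _ => h x)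
    have hfa : f a = -1 := (hcase a).resolve_left fun h => ha h
    rw [Subgroup.index_eq_two_iff]
    refine ⟨a, fun b => ?_⟩
    rw [MonoidHom.mem_ker, MonoidHom.mem_ker, map_mul, hfa]
    rcases hcase b with h | h
    · exact Or.inr ⟨h, by rw [h]; decide⟩
    · exact Or.inl ⟨by rw [h]; decide, by rw [h]; decide⟩
  obtain ⟨g, hg⟩ := Small.thompson_transfer_sylow hno S M hMS hMi hu
  obtain ⟨s, hs, hsg⟩ := hg
  have hgu : orderOf (g⁻¹ * u * g) = 2 := by
    have := Small.orderOf_conj_eq g⁻¹ u
    rw [inv_inv] at this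
    rw [this, hu]
  have hsg' : (s : G) = g⁻¹ * u * g := hsg
  have : (s : G) = t := by
    have hm : coord e ⟨s.1, hle s.2⟩ = m1 := inv3_det_one _ (coord_mem e _)
      ((isInv3_coord_iff e _).2 (by show orderOf (s : G) = 2; rw [hsg']; exact hgu)) hs
    rw [← coord_tC e ht, (coord_injective e).eq_iff] at hm
    exact congrArg Subtype.val hm
  refine isConj_iff.2 ⟨g, ?_⟩
  rw [← this, hsg']
  group

include e hno in
theorem eq_bot_of_odd_normal (ht : orderOf t = 2) (K : Subgroup G) [K.Normal]
    (hodd : Odd (Nat.card K)) : K = ⊥ := by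
  have h3 : ∀ k ∈ K, ∀ (hk : k ∈ Subgroup.centralizer ({t} : Set G)), k = 1 := by
    intro k hk hkC
    by_contra hk1
    set x : Subgroup.centralizer ({t} : Set G) := ⟨k, hkC⟩
    have hdvd : orderOf k ∣ 48 := by
      rw [← card_centralizer e, ← Subgroup.orderOf_mk k hkC]; exact orderOf_dvd_natCard _
    have hoddk : Odd (orderOf k) := by
      have hd := orderOf_dvd_natCard (⟨k, hk⟩ : K)
      rw [Subgroup.orderOf_mk] at hd
      exact hodd.of_dvd_nat hd
    have hk3 : orderOf k ∣ 3 := by
      refine (Nat.Coprime.dvd_of_dvd_mul_left ?_ (show orderOf k ∣ 2 ^ 4 * 3 from hdvd))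
      exact Nat.Coprime.pow_right 4 ((Nat.coprime_two_right).2 hoddk)
    have hx3 : x ^ 3 = 1 := Subtype.ext (orderOf_dvd_iff_pow_eq_one.1 hk3)
    obtain ⟨v, hv, hv4, hvne⟩ := exists_odd_escape _ (coord_mem e x)
      (by rw [← coord_pow, hx3, coord_one]) (by
        rw [← coord_one e, (coord_injective e).ne_iff]
        exact fun h => hk1 (congrArg Subtype.val h))
    obtain ⟨hv, hvi⟩ := Finset.mem_filter.1 hv
    obtain ⟨c, rfl⟩ := coord_surj e hv
    rw [← coord_mul, ← coord_mul, ← coord_mul] at hv4 hvne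
    rw [← coord_pow, ← coord_one e, (coord_injective e).eq_iff] at hv4
    rw [← coord_one e, (coord_injective e).ne_iff] at hvne
    have hcc : (c : G)⁻¹ = c := Small.inv_eq_self_of_orderOf_two ((isInv3_coord_iff e c).1 hvi)
    have hmem : ((x * (c * x * c) : Subgroup.centralizer ({t} : Set G)) : G) ∈ K := by
      refine K.mul_mem hk ?_
      have := (inferInstance : K.Normal).conj_mem k hk c
      rwa [hcc] at this
    set w := x * (c * x * c)
    have hd : orderOf (w : G) ∣ Nat.card K := by
      rw [← Subgroup.orderOf_mk (w : G) hmem]; exact orderOf_dvd_natCard _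
    have h4 : orderOf (w : G) ∣ 4 := orderOf_dvd_of_pow_eq_one (congrArg Subtype.val hv4)
    have := Nat.eq_one_of_dvd_coprimes (Nat.Coprime.pow_left 2 (Nat.coprime_two_left.2 hodd))
      (show orderOf (w : G) ∣ 2 ^ 2 from h4) hd
    exact hvne (Subtype.ext (orderOf_eq_one_iff.1 this))
  -- every involution inverts `K` without fixed points
  have hfix : ∀ u : G, orderOf u = 2 → ∀ k ∈ K, u * k * u⁻¹ = k → k = 1 := by
    intro u hu k hk hku
    obtain ⟨g, rfl⟩ := isConj_iff.1 (isConj_invol e hno ht hu)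
    have hk' : g⁻¹ * k * g ∈ K := by
      have := (inferInstance : K.Normal).conj_mem k hk g⁻¹
      rwa [inv_inv] at this
    have := h3 _ hk' (Subgroup.mem_centralizer_singleton_iff.2 ?_)
    · calc k = g * (g⁻¹ * k * g) * g⁻¹ := by group
        _ = 1 := by rw [this]; group
    · have hku' : g * t * g⁻¹ * k = k * (g * t * g⁻¹) := mul_inv_eq_iff_eq_mul.1 hku
      calc g⁻¹ * k * g * t = g⁻¹ * (k * (g * t * g⁻¹)) * g := by group
        _ = g⁻¹ * (g * t * g⁻¹ * k) * g := by rw [hku']
        _ = t * (g⁻¹ * k * g) := by group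
  have hinv : ∀ u : G, orderOf u = 2 → ∀ k ∈ K, u * k * u⁻¹ = k⁻¹ := by
    intro u hu
    let f : K → K := fun k => ⟨u * k * u⁻¹ * (k : G)⁻¹,
      K.mul_mem ((inferInstance : K.Normal).conj_mem _ k.2 u) (K.inv_mem k.2)⟩
    have hf : Function.Injective f := by
      intro a b hab
      have h : u * a * u⁻¹ * (a : G)⁻¹ = u * b * u⁻¹ * (b : G)⁻¹ := congrArg Subtype.val hab
      have h' : u * ((b : G)⁻¹ * a) * u⁻¹ = (b : G)⁻¹ * a := by
        calc u * ((b : G)⁻¹ * a) * u⁻¹ = (u * b * u⁻¹)⁻¹ * (u * a * u⁻¹ * (a : G)⁻¹) * a := by group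
          _ = (u * b * u⁻¹)⁻¹ * (u * b * u⁻¹ * (b : G)⁻¹) * a := by rw [h]
          _ = (b : G)⁻¹ * a := by group
      exact Subtype.ext (inv_mul_eq_one.1 (hfix u hu _ (K.mul_mem (K.inv_mem b.2) a.2) h')).symm
    intro k hk
    obtain ⟨a, ha⟩ := Finite.injective_iff_surjective.1 hf ⟨k, hk⟩
    have hk' : k = u * a * u⁻¹ * (a : G)⁻¹ := (congrArg Subtype.val ha).symm
    rw [hk']
    have huu := Small.mul_self_of_orderOf_two hu
    calc u * (u * a * u⁻¹ * (a : G)⁻¹) * u⁻¹ = (u * u) * a * u⁻¹ * (a : G)⁻¹ * u⁻¹ := by group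
      _ = (u * a * u⁻¹ * (a : G)⁻¹)⁻¹ := by
          rw [huu, Small.inv_eq_self_of_orderOf_two hu]
          simp [_root_.mul_inv_rev, Small.inv_eq_self_of_orderOf_two hu, mul_assoc]
  refine (Subgroup.eq_bot_iff_forall K).2 fun k hk => ?_
  obtain ⟨r, hr⟩ := coord_surj e (v := (2, 0, 0, 1)) (by decide)
  have hr2 : orderOf (r : G) = 2 := (isInv3_coord_iff e r).1 (by rw [hr]; decide)
  have hrt2 : orderOf (((r * tC : Subgroup.centralizer ({t} : Set G))) : G) = 2 :=
    (isInv3_coord_iff e _).1 (by rw [coord_mul, hr, coord_tC e ht]; decide)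
  have e3 := hinv _ hrt2 k hk
  have e4 : ((r * tC : Subgroup.centralizer ({t} : Set G)) : G) * k *
      ((r * tC : Subgroup.centralizer ({t} : Set G)) : G)⁻¹ = k := by
    show (r : G) * t * k * ((r : G) * t)⁻¹ = k
    calc (r : G) * t * k * ((r : G) * t)⁻¹ = (r : G) * (t * k * t⁻¹) * (r : G)⁻¹ := by group
      _ = ((r : G) * k * (r : G)⁻¹)⁻¹ := by rw [hinv t ht k hk]; group
      _ = k := by rw [hinv _ hr2 k hk, inv_inv]
  exact hfix _ hrt2 k hk e4

include e hno in
theorem isSimpleGroup (ht : orderOf t = 2) : IsSimpleGroup G := by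
  haveI : Fact (Nat.Prime 2) := ⟨Nat.prime_two⟩
  haveI : Nontrivial G := ⟨⟨t, 1, Small.ne_one_of_orderOf_two ht⟩⟩
  refine ⟨fun N hN => ?_⟩
  by_contra hcon
  push Not at hcon
  obtain ⟨hbot, htop⟩ := hcon
  haveI := hN
  rcases Nat.even_or_odd (Nat.card N) with hev | hodd
  swap
  · exact hbot (eq_bot_of_odd_normal e hno ht N hodd)
  obtain ⟨u, hu⟩ := exists_prime_orderOf_dvd_card' (G := N) 2 (even_iff_two_dvd.1 hev)
  have hall : ∀ v : G, orderOf v = 2 → v ∈ N := by
    intro v hv
    have hu2 : orderOf (u : G) = 2 := by rw [Subgroup.orderOf_coe]; exact hu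
    obtain ⟨g, hg⟩ := isConj_iff.1 ((isConj_invol e hno ht hu2).symm.trans (isConj_invol e hno ht hv))
    exact hg ▸ hN.conj_mem _ u.2 g
  have hCN : Subgroup.centralizer ({t} : Set G) ≤ N := by
    intro x hx
    obtain ⟨a, ha, b, hb, c, hc, hxabc⟩ := exists_three_invol _ (coord_mem e ⟨x, hx⟩)
    have hmem : ∀ w ∈ elts.filter (fun w => IsInv3 w ∨ w = one3),
        ∃ y : Subgroup.centralizer ({t} : Set G), coord e y = w ∧ (y : G) ∈ N := by
      intro w hw
      obtain ⟨hw, hw'⟩ := Finset.mem_filter.1 hw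
      obtain ⟨y, rfl⟩ := coord_surj e hw
      refine ⟨y, rfl, ?_⟩
      rcases hw' with h | h
      · exact hall _ ((isInv3_coord_iff e y).1 h)
      · rw [← coord_one e, (coord_injective e).eq_iff] at h
        rw [h]; exact N.one_mem
    obtain ⟨ya, rfl, hya⟩ := hmem a ha
    obtain ⟨yb, rfl, hyb⟩ := hmem b hb
    obtain ⟨yc, rfl, hyc⟩ := hmem c hc
    rw [← coord_mul, ← coord_mul, (coord_injective e).eq_iff] at hxabc
    have := congrArg Subtype.val hxabc
    simp only [Subgroup.coe_mul] at this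
    rw [this]
    exact N.mul_mem (N.mul_mem hya hyb) hyc
  obtain ⟨S, -, hSC, hNS⟩ := exists_sylow e ht
  refine htop (eq_top_iff.2 ?_)
  rw [← Sylow.normalizer_sup_eq_top' S (hSC.trans hCN)]
  exact sup_le (hNS.trans hCN) le_rfl

end CfsgLib.GLTwoThreeRecog
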