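import Cfsg.Agent.GLTwoThreeRecog.Geometry
import Cfsg.Agent.GLTwoThreeRecog.Simple
import Cfsg.Agent.Stages.PatternL33
import Cfsg.Agent.Linear.Perfect
import Cfsg.Agent.MElevenUnique.Main
import Cfsg.Agent.Characters.GL23.Theorem
import Cfsg.Prelude.Def_Transfer
import Cfsg.Prelude.Def_Spor_Mathieu

/-!
# Recognition of `L₃(3)` and `M₁₁` by the centraliser of an involution
-/

set_option autoImplicit false
set_option linter.style.haveILetI false

namespace CfsgLib.GLTwoThreeRecog

universe u

/-- `L₃(3)` is the automorphism group of the plane of order three. -/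
theorem nonempty_PSL_mulEquiv [Fact (Nat.Prime 3)] :
    Nonempty (Matrix.ProjectiveSpecialLinearGroup (Fin 3) (ZMod 3) ≃*
      Cfsg.setSystemAut (Set.range Plane.line)) := by
  have hF : Fintype.card (ZMod 3) = 3 := ZMod.card 3
  haveI := Linear.isSimpleGroup_PSL_of (F := ZMod 3) 3 (by norm_num) (fun h => absurd h (by norm_num))
  obtain ⟨i, hi, hrange, -⟩ := Stages.exists_L33_embedding hF
  have hne : (-1 : Stages.GL23) ≠ 1 := by decide
  have ht : orderOf (i (-1)) = 2 := by
    rw [orderOf_injective i hi]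
    exact orderOf_eq_prime (by simp) hne
  exact Ctx.nonempty_mulEquiv ⟨i (-1), ((MonoidHom.ofInjective hi).trans (MulEquiv.subgroupCongr hrange)).symm,
    ht, Stages.card_PSL_three_of_three hF⟩

/-- **Brauer's recognition of `L₃(3)` and `M₁₁`.** -/
theorem recognition {G : Type u} [Group G] [Finite G] (hO : Cfsg.pResidual 2 G = ⊤) (t : G)
    (ht : orderOf t = 2)
    (e : Subgroup.centralizer ({t} : Set G) ≃* Matrix.GeneralLinearGroup (Fin 2) (ZMod 3)) :
    (∃ (F : Type) (_ : Field F) (_ : Fintype F), Fintype.card F = 3 ∧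
      Nonempty (G ≃* Matrix.ProjectiveSpecialLinearGroup (Fin 3) F)) ∨ Cfsg.Spor.IsoM11 G := by
  haveI : Fact (Nat.Prime 3) := ⟨Nat.prime_three⟩
  have hno : ∀ H : Subgroup G, H.index ≠ 2 := by
    intro H hH
    have hle : (⊤ : Subgroup G) ≤ H := by
      rw [← hO, Cfsg.pResidual, Subgroup.closure_le]
      intro x hx
      exact mem_of_index_two hH (Nat.coprime_two_right.1 hx) (pow_orderOf_eq_one x)
    rw [top_le_iff.1 hle, Subgroup.index_top] at hH
    norm_num at hH
  haveI := isSimpleGroup e hno ht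
  haveI : Fintype G := Fintype.ofFinite G
  rcases Characters.GL23.card_eq_5616_or_7920 e ht with h | h
  · left
    obtain ⟨f⟩ := Ctx.nonempty_mulEquiv ⟨t, e, ht, h⟩
    obtain ⟨f'⟩ := nonempty_PSL_mulEquiv
    exact ⟨ZMod 3, inferInstance, inferInstance, ZMod.card 3, ⟨f.trans f'.symm⟩⟩
  · exact Or.inr (MElevenUnique.nonempty_mulEquiv_SporM11 inferInstance h)

end CfsgLib.GLTwoThreeRecog
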