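import Cfsg.Agent.GLTwoThreeRecog.Local

/-!
# The Sylow `3`-subgroup in a simple group of order 5616
-/

set_option autoImplicit false
set_option linter.style.haveILetI false

namespace CfsgLib.GLTwoThreeRecog

open CfsgLib.MElevenUnique (Cg Ng mem_Cg mem_Cg_comm card_Cg_of_isConj mem_Cg_conj)

universe u

variable {G : Type u} [Group G]

theorem inv_conj_of {u a b : G} (hu : orderOf u = 2) (h : u * a * u⁻¹ = b) : u * b * u⁻¹ = a := by
  rw [← h, Small.inv_eq_self_of_orderOf_two hu]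
  calc u * (u * a * u) * u = (u * u) * a * (u * u) := by group
    _ = a := by rw [Small.mul_self_of_orderOf_two hu]; group

namespace Ctx

variable [Finite G] [IsSimpleGroup G] (c : Ctx G)
include c

/-- The Sylow `3`-subgroup of `C(x)`. -/
theorem exists_threeA {x : G} (hx : IsA x) :
    ∃ Q : Subgroup G, Q ≤ Cg x ∧ Nat.card Q = 27 ∧ x ∈ Q ∧ (∀ y ∈ Cg x, y ^ 27 = 1 → y ∈ Q) ∧
      ∀ n : G, (n * x * n⁻¹ = x ∨ n * x * n⁻¹ = x⁻¹) → ∀ y ∈ Q, n * y * n⁻¹ ∈ Q := by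
  obtain ⟨Q, h1, h2, h3, h4⟩ := c.exists_three_part (x := x) (a := 3) (by rw [c.card_Cg_A hx]; norm_num)
  refine ⟨Q, h1, by rw [h2]; norm_num, h3 x (mem_Cg.2 rfl) ?_, fun y hy hy27 => h3 y hy (by
    rw [show (3 : ℕ) ^ 3 = 27 by norm_num]; exact hy27), h4⟩
  exact orderOf_dvd_iff_pow_eq_one.1 (by rw [hx.1]; norm_num)

/-- A subgroup of `3`-power order inside the centraliser of an involution has order at most three. -/
theorem card_inter_invol {P : Subgroup G} (hP : Nat.card P = 27) {u : G} (hu : orderOf u = 2) :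
    Nat.card ↥(P ⊓ Cg u : Subgroup G) ∣ 3 := by
  have h := Nat.dvd_gcd (hP ▸ Subgroup.card_dvd_of_le (inf_le_left : P ⊓ Cg u ≤ P))
    (c.card_Cg_invol hu ▸ Subgroup.card_dvd_of_le (inf_le_right : P ⊓ Cg u ≤ Cg u))
  simpa using h

theorem line_eq {P : Subgroup G} (hP : Nat.card P = 27) {u x y : G} (hu : orderOf u = 2) (hx : x ∈ P)
    (hxu : u * x * u⁻¹ = x) (hy : y ∈ P) (hy1 : y ≠ 1) (hyu : u * y * u⁻¹ = y) :
    x ∈ Subgroup.zpowers y ∧ orderOf y = 3 := by
  have hmem : ∀ z ∈ P, u * z * u⁻¹ = z → z ∈ P ⊓ Cg u := fun z hz hzu =>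
    ⟨hz, mem_Cg.2 (mul_inv_eq_iff_eq_mul.1 hzu).symm⟩
  have h3 := c.card_inter_invol hP hu
  have hy3 : orderOf y = 3 := by
    have hd := (orderOf_dvd_natCard (⟨y, hmem y hy hyu⟩ : (P ⊓ Cg u : Subgroup G))).trans h3
    rw [Subgroup.orderOf_mk] at hd
    exact ((Nat.dvd_prime Nat.prime_three).1 hd).resolve_left fun h => hy1 (orderOf_eq_one_iff.1 h)
  have hle : Subgroup.zpowers y ≤ P ⊓ Cg u := Subgroup.zpowers_le.2 (hmem y hy hyu)
  have heq := Subgroup.eq_of_le_of_card_ge hle (by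
    rw [Nat.card_zpowers, hy3]; exact Nat.le_of_dvd (by norm_num) h3)
  exact ⟨heq ▸ hmem x hx hxu, hy3⟩

/-- An involution inverting `g` has a nontrivial fixed point on the Sylow subgroup of `C(g)`. -/
theorem exists_fix {g r : G} (hg : g ∈ Cg c.t) (hg3 : orderOf g = 3) (hr : orderOf r = 2)
    (hrt : orderOf (r * c.t) = 2) (hrg : r * g * r⁻¹ = g⁻¹) {P : Subgroup G}
    (hP : Nat.card P = 27) (hgP : g ∈ P)
    (hn : ∀ n : G, (n * g * n⁻¹ = g ∨ n * g * n⁻¹ = g⁻¹) → ∀ y ∈ P, n * y * n⁻¹ ∈ P) :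
    ∃ y ∈ P, y ≠ 1 ∧ r * y * r⁻¹ = y := by
  by_contra hcon
  push Not at hcon
  have hrn := hn r (Or.inr hrg)
  have htg : c.t * g * c.t⁻¹ = g := by rw [← mem_Cg.1 hg, mul_inv_cancel_right]
  have hinv : ∀ x ∈ P, r * x * r⁻¹ = x⁻¹ := by
    let f : P → P := fun k => ⟨r * k * r⁻¹ * (k : G)⁻¹, P.mul_mem (hrn _ k.2) (P.inv_mem k.2)⟩
    have hf : Function.Injective f := by
      intro a b hab
      have h : r * a * r⁻¹ * (a : G)⁻¹ = r * b * r⁻¹ * (b : G)⁻¹ := congrArg Subtype.val hab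
      have h' : r * ((b : G)⁻¹ * a) * r⁻¹ = (b : G)⁻¹ * a := by
        calc r * ((b : G)⁻¹ * a) * r⁻¹ = (r * b * r⁻¹)⁻¹ * (r * a * r⁻¹ * (a : G)⁻¹) * a := by group
          _ = (r * b * r⁻¹)⁻¹ * (r * b * r⁻¹ * (b : G)⁻¹) * a := by rw [h]
          _ = (b : G)⁻¹ * a := by group
      by_contra hne
      refine hcon _ (P.mul_mem (P.inv_mem b.2) a.2) (fun h1 => hne ?_) h'
      exact Subtype.ext (inv_mul_eq_one.1 h1).symm
    intro x hx
    obtain ⟨a, ha⟩ := Finite.injective_iff_surjective.1 hf ⟨x, hx⟩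
    rw [show x = r * a * r⁻¹ * (a : G)⁻¹ from (congrArg Subtype.val ha).symm]
    calc r * (r * a * r⁻¹ * (a : G)⁻¹) * r⁻¹ = (r * r) * a * r⁻¹ * (a : G)⁻¹ * r⁻¹ := by group
      _ = (r * a * r⁻¹ * (a : G)⁻¹)⁻¹ := by
          rw [Small.mul_self_of_orderOf_two hr, Small.inv_eq_self_of_orderOf_two hr]
          simp [_root_.mul_inv_rev, Small.inv_eq_self_of_orderOf_two hr, mul_assoc]
  have hcomm : ∀ a ∈ P, ∀ b ∈ P, a * b = b * a := by
    intro a ha b hb
    have h1 := hinv (a * b) (P.mul_mem ha hb)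
    have h2 : r * (a * b) * r⁻¹ = a⁻¹ * b⁻¹ := by
      calc r * (a * b) * r⁻¹ = (r * a * r⁻¹) * (r * b * r⁻¹) := by group
        _ = a⁻¹ * b⁻¹ := by rw [hinv a ha, hinv b hb]
    rw [h2, _root_.mul_inv_rev] at h1
    calc a * b = (b⁻¹ * a⁻¹)⁻¹ := by group
      _ = (a⁻¹ * b⁻¹)⁻¹ := by rw [h1]
      _ = b * a := by group
  have htn := hn c.t (Or.inl htg)
  have hvinv : ∀ x ∈ P, r * c.t * x * (r * c.t)⁻¹ = (c.t * x * c.t⁻¹)⁻¹ := fun x hx => by
    rw [show r * c.t * x * (r * c.t)⁻¹ = r * (c.t * x * c.t⁻¹) * r⁻¹ by group]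
    exact hinv _ (htn x hx)
  let f : P →* G :=
    { toFun := fun x => (x : G) * (c.t * x * c.t⁻¹)⁻¹
      map_one' := by simp
      map_mul' := fun a b => by
        have h1 := hcomm _ b.2 _ (P.inv_mem (htn _ a.2))
        have h2 := hcomm _ (P.inv_mem (htn _ b.2)) _ (P.inv_mem (htn _ a.2))
        push_cast
        calc (a : G) * b * (c.t * ((a : G) * b) * c.t⁻¹)⁻¹
            = a * (b * ((c.t * b * c.t⁻¹)⁻¹ * (c.t * a * c.t⁻¹)⁻¹)) := by group
          _ = a * (b * ((c.t * a * c.t⁻¹)⁻¹ * (c.t * b * c.t⁻¹)⁻¹)) := by rw [h2]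
          _ = a * ((b * (c.t * a * c.t⁻¹)⁻¹) * (c.t * b * c.t⁻¹)⁻¹) := by group
          _ = a * ((c.t * a * c.t⁻¹)⁻¹ * b * (c.t * b * c.t⁻¹)⁻¹) := by rw [h1]
          _ = _ := by group }
  have hker : ∀ x : P, f x = 1 → (x : G) ∈ Subgroup.zpowers g := by
    intro x hx
    have hx' : c.t * x * c.t⁻¹ = x := (mul_inv_eq_one.1 hx).symm
    exact (c.line_eq hP c.ht x.2 hx' hgP (fun h => by rw [h, orderOf_one] at hg3; omega) htg).1
  have h9 : 9 ≤ Nat.card f.range := by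
    have h := f.ker.card_mul_index
    rw [Subgroup.index_ker, hP] at h
    have hk : Nat.card f.ker ≤ 3 := by
      rw [← hg3, ← Nat.card_zpowers]
      exact Nat.card_le_card_of_injective (fun x : f.ker => (⟨_, hker x.1 x.2⟩ : Subgroup.zpowers g))
        fun a b hab => Subtype.ext (Subtype.ext (congrArg (fun y : Subgroup.zpowers g => (y : G)) hab))
    nlinarith
  have hle : f.range ≤ P ⊓ Cg (r * c.t) := by
    rintro _ ⟨x, rfl⟩
    have hmem : (x : G) * (c.t * x * c.t⁻¹)⁻¹ ∈ P := P.mul_mem x.2 (P.inv_mem (htn _ x.2))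
    refine ⟨hmem, mem_Cg.2 (mul_inv_eq_iff_eq_mul.1 ?_).symm⟩
    show r * c.t * ((x : G) * (c.t * x * c.t⁻¹)⁻¹) * (r * c.t)⁻¹ = _
    rw [hvinv _ hmem]
    calc (c.t * ((x : G) * (c.t * x * c.t⁻¹)⁻¹) * c.t⁻¹)⁻¹
        = (c.t * c.t) * x * c.t⁻¹ * (x : G)⁻¹ * c.t⁻¹ := by
          simp only [_root_.mul_inv_rev, inv_inv, mul_assoc]
      _ = _ := by
          rw [Small.mul_self_of_orderOf_two c.ht, one_mul]
          show _ = (x : G) * (c.t * x * c.t⁻¹)⁻¹
          simp only [_root_.mul_inv_rev, inv_inv, mul_assoc, Small.inv_eq_self_of_orderOf_two c.ht]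
  have := (Subgroup.card_le_of_le hle).trans
    (Nat.le_of_dvd (by norm_num) (c.card_inter_invol hP hrt))
  omega

/-- The two involutions inverting `g` have independent fixed lines, and `t` inverts both. -/
theorem exists_lines {g r : G} (hg : g ∈ Cg c.t) (hg3 : orderOf g = 3) (hr : orderOf r = 2)
    (hrt : orderOf (r * c.t) = 2) (hcomm : r * c.t = c.t * r) (hrg : r * g * r⁻¹ = g⁻¹)
    {P : Subgroup G} (hP : Nat.card P = 27) (hgP : g ∈ P)
    (hn : ∀ n : G, (n * g * n⁻¹ = g ∨ n * g * n⁻¹ = g⁻¹) → ∀ y ∈ P, n * y * n⁻¹ ∈ P) :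
    ∃ y ∈ P, r * y * r⁻¹ = y ∧ c.t * y * c.t⁻¹ = y⁻¹ ∧ IsA y ∧ y ∉ Subgroup.zpowers g := by
  obtain ⟨y, hy, hy1, hry⟩ := c.exists_fix hg hg3 hr hrt hrg hP hgP hn
  obtain ⟨-, hy3⟩ := c.line_eq hP hr hy hry hy hy1 hry
  have htg : c.t * g * c.t⁻¹ = g := by rw [← mem_Cg.1 hg, mul_inv_cancel_right]
  have hgne : g ≠ g⁻¹ := fun h => by
    have h2 : g ^ 2 = 1 := by rw [sq]; nth_rewrite 2 [h]; exact mul_inv_cancel g
    have := orderOf_dvd_of_pow_eq_one h2
    rw [hg3] at this; norm_num at this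
  have hny : y ∉ Subgroup.zpowers g := by
    intro h
    rcases mem_zpowers_three hg3 h with e | e | e
    · exact hy1 e
    · exact hgne (by rw [← hrg, ← e, hry])
    · refine hgne ?_
      rw [e] at hry
      have := inv_conj_of hr hrg
      rw [hry] at this
      exact this.symm
  refine ⟨y, hy, hry, ?_, ⟨hy3, r, hr, mul_inv_eq_iff_eq_mul.1 hry⟩, hny⟩
  have hty : r * (c.t * y * c.t⁻¹) * r⁻¹ = c.t * y * c.t⁻¹ := by
    calc r * (c.t * y * c.t⁻¹) * r⁻¹ = (r * c.t) * y * (r * c.t)⁻¹ := by group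
      _ = (c.t * r) * y * (c.t * r)⁻¹ := by rw [hcomm]
      _ = c.t * (r * y * r⁻¹) * c.t⁻¹ := by group
      _ = _ := by rw [hry]
  rcases mem_zpowers_three hy3 (c.line_eq hP hr (hn c.t (Or.inl htg) y hy) hty hy hy1 hry).1 with e | e | e
  · exact absurd (conj_eq_one_iff.1 e) hy1
  · exact absurd (c.line_eq hP c.ht hy e hgP (fun h => by rw [h, orderOf_one] at hg3; omega) htg).1 hny
  · exact e

/-- The Sylow `3`-subgroup is not commutative. -/
theorem not_comm_sylow {g : G} (hg : g ∈ Cg c.t) (hg3 : orderOf g = 3)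
    {P : Subgroup G} (hP : Nat.card P = 27) (hgP : g ∈ P)
    (hn : ∀ n : G, (n * g * n⁻¹ = g ∨ n * g * n⁻¹ = g⁻¹) → ∀ y ∈ P, n * y * n⁻¹ ∈ P)
    (hPmem : ∀ y ∈ Cg g, y ^ 27 = 1 → y ∈ P) :
    ¬ ∀ a ∈ P, ∀ b ∈ P, a * b = b * a := by
  intro hab
  haveI : Fact (Nat.Prime 3) := ⟨Nat.prime_three⟩
  obtain ⟨r, hr, hrt, hcomm, hrg⟩ := c.exists_inverter hg hg3
  have htg : c.t * g * c.t⁻¹ = g := by rw [← mem_Cg.1 hg, mul_inv_cancel_right]
  have hrtg : r * c.t * g * (r * c.t)⁻¹ = g⁻¹ := by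
    rw [show r * c.t * g * (r * c.t)⁻¹ = r * (c.t * g * c.t⁻¹) * r⁻¹ by group, htg, hrg]
  have hrtt : r * c.t * c.t = r := by
    rw [mul_assoc, Small.mul_self_of_orderOf_two c.ht, mul_one]
  obtain ⟨y, hy, hry, hty, hyA, hyg⟩ := c.exists_lines hg hg3 hr hrt hcomm hrg hP hgP hn
  obtain ⟨y', hy', hry', hty', hyA', hyg'⟩ := c.exists_lines hg hg3 hrt (by rw [hrtt]; exact hr)
    (by rw [hrtt]; rw [← mul_assoc, ← hcomm, hrtt]) hrtg hP hgP hn
  have hyy : y' ∉ Subgroup.zpowers y := by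
    intro h
    have hfix : ∀ x ∈ Subgroup.zpowers y, r * x * r⁻¹ = x := fun x hx => by
      obtain ⟨k, rfl⟩ := Subgroup.mem_zpowers_iff.1 hx
      rw [← conj_zpow, hry]
    have h1 := hfix y' h
    have h2 : c.t * y' * c.t⁻¹ = y' := by
      have : r * (c.t * y' * c.t⁻¹) * r⁻¹ = y' := by
        rw [show r * (c.t * y' * c.t⁻¹) * r⁻¹ = r * c.t * y' * (r * c.t)⁻¹ by group]; exact hry'
      have := inv_conj_of hr this
      rwa [h1, eq_comm] at this
    exact hyg' (c.line_eq hP c.ht hy' h2 hgP (fun h => by rw [h, orderOf_one] at hg3; omega) htg).1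
  -- every conjugate of `g` inside `P` under the normaliser
  set N := Ng P with hN
  have hCN : Cg g ≤ N := fun n hn' => mem_Ng_of_forall (hn n (Or.inl (by rw [mem_Cg.1 hn']; group)))
  set O := {w : G | ∃ n ∈ N, n * g * n⁻¹ = w} with hO
  have hOcard : O.ncard * 54 = Nat.card N := by
    rw [← c.card_Cg_mem hg hg3]; exact card_orbit_mul hCN
  have hOP : O ⊆ (P : Set G) \ {1} := by
    rintro w ⟨n, hn', rfl⟩
    refine ⟨(Subgroup.mem_normalizer_iff.1 hn' g).1 hgP, fun h => ?_⟩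
    rw [Set.mem_singleton_iff, conj_eq_one_iff] at h
    rw [h, orderOf_one] at hg3; omega
  have hOinv : ∀ w ∈ O, w⁻¹ ∈ O := by
    rintro w ⟨n, hn', rfl⟩
    exact ⟨n * r, mul_mem hn' (mem_Ng_of_forall (hn r (Or.inr hrg))), by
      rw [show n * r * g * (n * r)⁻¹ = n * (r * g * r⁻¹) * n⁻¹ by group, hrg]; group⟩
  have hgO : g ∈ O := ⟨1, N.one_mem, by group⟩
  have hyO : ∀ v ∈ P, IsA v → v ∈ O := by
    intro v hv hvA
    obtain ⟨h, hh⟩ := isConj_iff.1 (c.isConj_A (c.isA_of_mem hg hg3) hvA)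
    refine ⟨h, mem_Ng_of_forall fun x hx => ?_, hh⟩
    obtain ⟨Q, hQle, hQc, -, hQmem, -⟩ := c.exists_threeA hvA
    have hPQ : P = Q := Subgroup.eq_of_le_of_card_ge (fun p hp =>
      hQmem p (mem_Cg.2 (hab p hp v hv)) (hP ▸ congrArg Subtype.val (pow_card_eq_one' (x := (⟨p, hp⟩ : P)))))
      (by rw [hQc, hP])
    refine hPQ.symm ▸ hQmem _ ?_ ?_
    · rw [← hh, mem_Cg_conj]; exact mem_Cg.2 (hab x hx g hgP)
    · rw [conj_pow, show x ^ 27 = 1 from hP ▸ congrArg Subtype.val (pow_card_eq_one' (x := (⟨x, hx⟩ : P)))]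
      group
  have hy1 : y ∈ O := hyO y hy hyA
  have hy1' : y' ∈ O := hyO y' hy' hyA'
  classical
  set six : Finset G := {g, g⁻¹, y, y⁻¹, y', y'⁻¹} with hsix
  have hself : ∀ x : G, orderOf x = 3 → x ≠ x⁻¹ := fun x hx h => by
    have h2 : x ^ 2 = 1 := by rw [sq]; nth_rewrite 2 [h]; exact mul_inv_cancel x
    have := orderOf_dvd_of_pow_eq_one h2
    rw [hx] at this; norm_num at this
  have hsix_sub : (↑six : Set G) ⊆ O := by
    intro x hx
    simp only [hsix, Finset.coe_insert, Finset.coe_singleton, Set.mem_insert_iff,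
      Set.mem_singleton_iff] at hx
    rcases hx with rfl | rfl | rfl | rfl | rfl | rfl
    exacts [hgO, hOinv _ hgO, hy1, hOinv _ hy1, hy1', hOinv _ hy1']
  have hsix_card : six.card = 6 := by
    have h1 := hself g hg3
    have h2 := hself y hyA.1
    have h3 := hself y' hyA'.1
    have e1 : y ≠ g := fun h => hyg (h ▸ Subgroup.mem_zpowers g)
    have e2 : y ≠ g⁻¹ := fun h => hyg (h ▸ inv_mem (Subgroup.mem_zpowers g))
    have e3 : y' ≠ g := fun h => hyg' (h ▸ Subgroup.mem_zpowers g)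
    have e4 : y' ≠ g⁻¹ := fun h => hyg' (h ▸ inv_mem (Subgroup.mem_zpowers g))
    have e5 : y' ≠ y := fun h => hyy (h ▸ Subgroup.mem_zpowers y)
    have e6 : y' ≠ y⁻¹ := fun h => hyy (h ▸ inv_mem (Subgroup.mem_zpowers y))
    have n1 : y⁻¹ ≠ g := fun h => e2 (inv_eq_iff_eq_inv.1 h)
    have n2 : y⁻¹ ≠ g⁻¹ := fun h => e1 (inv_injective h)
    have n3 : y'⁻¹ ≠ g := fun h => e4 (inv_eq_iff_eq_inv.1 h)
    have n4 : y'⁻¹ ≠ g⁻¹ := fun h => e3 (inv_injective h)
    have n5 : y'⁻¹ ≠ y := fun h => e6 (inv_eq_iff_eq_inv.1 h)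
    have n6 : y'⁻¹ ≠ y⁻¹ := fun h => e5 (inv_injective h)
    rw [hsix]
    simp only [Finset.card_insert_eq_ite, Finset.mem_insert, Finset.mem_singleton,
      Finset.card_singleton]
    simp [h1, h2, h3, e1.symm, e2.symm, e3.symm, e4.symm, e5.symm, e6.symm, n1.symm, n2.symm,
      n3.symm, n4.symm, n5.symm, n6.symm]
  have h6 : 6 ≤ O.ncard := by
    rw [← hsix_card, ← Set.ncard_coe_finset]
    exact Set.ncard_le_ncard hsix_sub (Set.toFinite _)
  have h26 : O.ncard ≤ 26 := by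
    refine (Set.ncard_le_ncard hOP (Set.toFinite _)).trans ?_
    rw [Set.ncard_sdiff (by simp [P.one_mem]), Set.ncard_singleton, ← Nat.card_coe_set_eq,
      show Nat.card (P : Set G) = 27 from hP]
  have hdvd : O.ncard ∣ 104 := by
    have := Subgroup.card_subgroup_dvd_card N
    rw [← hOcard, c.hcard, show (5616 : ℕ) = 104 * 54 by norm_num] at this
    exact Nat.dvd_of_mul_dvd_mul_right (by norm_num) this
  have h8 : O.ncard = 8 := by
    have hmem : O.ncard ∈ (Nat.divisors 104).filter (fun m => 6 ≤ m ∧ m ≤ 26) :=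
      Finset.mem_filter.2 ⟨Nat.mem_divisors.2 ⟨hdvd, by norm_num⟩, h6, h26⟩
    rw [show (Nat.divisors 104).filter (fun m => 6 ≤ m ∧ m ≤ 26) = {8, 13, 26} by decide] at hmem
    simp only [Finset.mem_insert, Finset.mem_singleton] at hmem
    have hindex : Nat.card N * N.index = 5616 := c.hcard ▸ N.card_mul_index
    obtain ⟨S, hS⟩ := (IsPGroup.of_card (n := 3) (p := 3) (G := P) (by rw [hP]; norm_num)).exists_le_sylow
    have hPS : P = (S : Subgroup G) := Subgroup.eq_of_le_of_card_ge hS (by rw [hP, c.card_sylow_three])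
    have hmod : N.index % 3 = 1 := by
      rw [hN]
      show (Subgroup.normalizer (P : Set G)).index % 3 = 1
      rw [hPS]
      have := card_sylow_modEq_one 3 G
      rw [S.card_eq_index_normalizer] at this
      exact this
    rcases hmem with h | h | h
    · exact h
    · exfalso
      rw [h] at hOcard
      rw [← hOcard] at hindex
      omega
    · exfalso
      rw [h] at hOcard
      rw [← hOcard] at hindex
      have h4 : N.index = 4 := by omega
      have := Small.card_dvd_factorial_index N fun htop => by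
        rw [htop, Subgroup.index_top] at h4; omega
      rw [h4, c.hcard] at this
      norm_num [Nat.factorial] at this
  -- the remaining two members of the orbit
  obtain ⟨w, hwO, hw6⟩ : ∃ w ∈ O, w ∉ six := by
    by_contra h
    push Not at h
    have := Set.ncard_le_ncard (show O ⊆ (↑six : Set G) from fun x hx => h x hx) (Set.toFinite _)
    rw [Set.ncard_coe_finset, hsix_card] at this
    omega
  have hwP : w ∈ P := (hOP hwO).1
  have hw1 : w ≠ 1 := (hOP hwO).2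
  have hw3 : orderOf w = 3 := by
    obtain ⟨n, -, rfl⟩ := hwO
    rw [Small.orderOf_conj_eq, hg3]
  have hwinv : w⁻¹ ∉ six := fun h => hw6 (by
    simp only [hsix, Finset.mem_insert, Finset.mem_singleton] at h ⊢
    rcases h with e | e | e | e | e | e <;> simp [inv_eq_iff_eq_inv.1 e])
  have htyy : c.t * y' * c.t⁻¹ = y'⁻¹ := hty'
  have hrt_y : r * y' * r⁻¹ = y'⁻¹ := by
    calc r * y' * r⁻¹ = (r * c.t) * (c.t * y' * c.t⁻¹) * (r * c.t)⁻¹ := by
          conv_lhs => rw [← hrtt]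
          group
      _ = ((r * c.t) * y' * (r * c.t)⁻¹)⁻¹ := by rw [hty']; group
      _ = y'⁻¹ := by rw [hry']
  -- conjugation by `t` or `r` preserves the pair `w, w⁻¹`
  have hpair : ∀ u : G, orderOf u = 2 → u ∈ N → (∀ x ∈ six, u * x * u⁻¹ ∈ six) →
      u * w * u⁻¹ = w ∨ u * w * u⁻¹ = w⁻¹ := by
    intro u hu huN hsi
    have huO : u * w * u⁻¹ ∈ O := by
      obtain ⟨n, hn', rfl⟩ := hwO
      exact ⟨u * n, mul_mem huN hn', by group⟩
    have hu6 : u * w * u⁻¹ ∉ six := fun h => hw6 (by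
      have := hsi _ h
      rwa [inv_conj_of hu rfl] at this)
    by_contra hne
    push Not at hne
    set nine : Finset G := insert (u * w * u⁻¹) (insert w (insert w⁻¹ six))
    have hsub : (↑nine : Set G) ⊆ O := by
      intro x hx
      simp only [nine, Finset.coe_insert, Set.mem_insert_iff] at hx
      rcases hx with rfl | rfl | rfl | hx
      exacts [huO, hwO, hOinv _ hwO, hsix_sub hx]
    have hc9 : nine.card = 9 := by
      simp only [nine]
      rw [Finset.card_insert_of_notMem, Finset.card_insert_of_notMem, Finset.card_insert_of_notMem,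
        hsix_card]
      · exact hwinv
      · simp [hw6, hself w hw3]
      · simp [hu6, hne.1, hne.2]
    have := Set.ncard_le_ncard hsub (Set.toFinite _)
    rw [Set.ncard_coe_finset, hc9] at this
    omega
  have hsi_of : ∀ u : G, (u * g * u⁻¹ = g ∨ u * g * u⁻¹ = g⁻¹) → (u * y * u⁻¹ = y ∨ u * y * u⁻¹ = y⁻¹) →
      (u * y' * u⁻¹ = y' ∨ u * y' * u⁻¹ = y'⁻¹) → ∀ x ∈ six, u * x * u⁻¹ ∈ six := by
    intro u h1 h2 h3 x hx
    simp only [hsix, Finset.mem_insert, Finset.mem_singleton] at hx ⊢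
    rcases hx with rfl | rfl | rfl | rfl | rfl | rfl
    · rcases h1 with e | e <;> simp [e]
    · rw [← conj_inv]; rcases h1 with e | e <;> simp [e]
    · rcases h2 with e | e <;> simp [e]
    · rw [← conj_inv]; rcases h2 with e | e <;> simp [e]
    · rcases h3 with e | e <;> simp [e]
    · rw [← conj_inv]; rcases h3 with e | e <;> simp [e]
  have hT := hpair c.t c.ht (mem_Ng_of_forall (hn c.t (Or.inl htg)))
    (hsi_of _ (Or.inl htg) (Or.inr hty) (Or.inr hty'))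
  have hR := hpair r hr (mem_Ng_of_forall (hn r (Or.inr hrg)))
    (hsi_of _ (Or.inr hrg) (Or.inl hry) (Or.inr hrt_y))
  have hfin : ∀ (u : G) (v : G), orderOf u = 2 → v ∈ P → v ≠ 1 → u * v * u⁻¹ = v → u * w * u⁻¹ = w →
      v ∈ six → v⁻¹ ∈ six → False := by
    intro u v hu hv hv1 huv huw h6v h6v'
    obtain ⟨hmem, hv3⟩ := c.line_eq hP hu hwP huw hv hv1 huv
    rcases mem_zpowers_three hv3 hmem with e | e | e
    exacts [hw1 e, hw6 (e ▸ h6v), hw6 (e ▸ h6v')]
  rcases hT with hT | hT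
  · exact hfin c.t g c.ht hgP (fun h => by rw [h, orderOf_one] at hg3; omega) htg hT
      (by simp [hsix]) (by simp [hsix])
  rcases hR with hR | hR
  · exact hfin r y hr hy (fun h => by rw [h] at hyg; exact hyg (one_mem _)) hry hR
      (by simp [hsix]) (by simp [hsix])
  refine hfin (r * c.t) y' hrt hy' (fun h => by rw [h] at hyg'; exact hyg' (one_mem _)) hry' ?_
    (by simp [hsix]) (by simp [hsix])
  rw [show r * c.t * w * (r * c.t)⁻¹ = r * (c.t * w * c.t⁻¹) * r⁻¹ by group, hT, ← conj_inv, hR, inv_inv]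

theorem center_A {x : G} (hx : IsA x) {Q : Subgroup G} (hQ : Nat.card Q = 27) (hQle : Q ≤ Cg x)
    (hxQ : x ∈ Q) : ∀ a ∈ Q, ∀ b ∈ Q, a * b * a⁻¹ * b⁻¹ ∈ Subgroup.zpowers x := by
  by_cases hc : ∀ a ∈ Q, ∀ b ∈ Q, a * b = b * a
  · intro a ha b hb
    rw [hc a ha b hb, mul_inv_cancel_right, mul_inv_cancel]
    exact one_mem _
  obtain ⟨z, hz, hz3, hzc, hzu, hcm⟩ := center_three hQ hc
  have := hzu x hxQ fun a ha => mem_Cg.1 (hQle ha)
  rw [zpowers_eq_of_mem hz3 this (fun h => by have := hx.1; rw [h, orderOf_one] at this; omega)]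
  exact hcm

/-- In the Sylow subgroup of `C(x)` only the powers of `x` are central. -/
theorem central_mem {x : G} (hx : IsA x) {Q : Subgroup G} (hQ : Nat.card Q = 27) (hQle : Q ≤ Cg x)
    (hxQ : x ∈ Q) {y : G} (hy : y ∈ Q) (hyc : ∀ a ∈ Q, a * y = y * a) :
    y ∈ Subgroup.zpowers x := by
  have hnc : ¬ ∀ a ∈ Q, ∀ b ∈ Q, a * b = b * a := by
    intro hab
    obtain ⟨h, hh, hh3⟩ := c.exists_conj_into hx
    set g := h * x * h⁻¹
    obtain ⟨P, hPle, hPc, hgP, hPmem, hPn⟩ := c.exists_threeA (c.isA_of_mem hh hh3)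
    refine c.not_comm_sylow hh hh3 hPc hgP hPn hPmem ?_
    have hPQ : ∀ p ∈ P, h⁻¹ * p * h ∈ Q := by
      intro p hp
      set R := Q.map (MulAut.conj h).toMonoidHom
      have hR : R = P := by
        refine Subgroup.eq_of_le_of_card_ge ?_ (by
          rw [hPc, MElevenUnique.card_conj_smul, hQ])
        rintro _ ⟨q, hq, rfl⟩
        refine hPmem _ (mem_Cg_conj.2 (hQle hq)) ?_
        show (h * q * h⁻¹) ^ 27 = 1
        rw [conj_pow, show q ^ 27 = 1 from hQ ▸ congrArg Subtype.val (pow_card_eq_one' (x := (⟨q, hq⟩ : Q)))]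
        group
      rw [← hR] at hp
      obtain ⟨q, hq, rfl⟩ := hp
      show h⁻¹ * (h * q * h⁻¹) * h ∈ Q
      rw [show h⁻¹ * (h * q * h⁻¹) * h = q by group]
      exact hq
    intro a ha b hb
    calc a * b = h * ((h⁻¹ * a * h) * (h⁻¹ * b * h)) * h⁻¹ := by group
      _ = h * ((h⁻¹ * b * h) * (h⁻¹ * a * h)) * h⁻¹ := by rw [hab _ (hPQ a ha) _ (hPQ b hb)]
      _ = b * a := by group
  obtain ⟨z, hz, hz3, hzc, hzu, -⟩ := center_three hQ hnc
  have hxz := hzu x hxQ fun a ha => mem_Cg.1 (hQle ha)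
  rw [zpowers_eq_of_mem hz3 hxz (fun h => by have := hx.1; rw [h, orderOf_one] at this; omega)]
  exact hzu y hy hyc

end Ctx

end CfsgLib.GLTwoThreeRecog
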